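import Groth.Agent.SepFam.Artin
import Groth.Agent.QC.Basic

/-!
# Schematically dominant families of morphisms
-/

set_option autoImplicit false
set_option backward.isDefEq.respectTransparency false
set_option linter.style.haveILetI false

universe u

open CategoryTheory CategoryTheory.Limits AlgebraicGeometry TopologicalSpace Opposite TensorProduct

namespace Groth.Agent.SepFam

open Groth.Agent.QC

/-- Jointly injective on functions over all opens. -/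
def SepMor {X : Scheme.{u}} {ι : Type u} {Z : ι → Scheme.{u}} (f : ∀ i, Z i ⟶ X) : Prop :=
  ∀ (V : X.Opens) (t : Γ(X, V)), (∀ i, (f i).app V t = 0) → t = 0

theorem eq_zero_of_cover {X : Scheme.{u}} {V : X.Opens} (t : Γ(X, V))
    (h : ∀ z ∈ V, ∃ (D : X.Opens) (hD : D ≤ V), z ∈ D ∧ resO X hD t = 0) : t = 0 := by
  refine TopCat.Presheaf.section_ext X.sheaf V t 0 fun z hz => ?_
  obtain ⟨D, hD, hzD, h0⟩ := h z hz
  have h1 := X.presheaf.germ_res_apply (homOfLE hD) z hzD t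
  change X.presheaf.germ V z hz t = X.presheaf.germ V z hz 0
  rw [← h1, show X.presheaf.map (homOfLE hD).op t = 0 from h0, map_zero, map_zero]

theorem resO_basicOpen_eq_zero_iff {X : Scheme.{u}} {W : X.Opens} (hW : IsAffineOpen W) (r m : Γ(X, W)) :
    resO X (X.basicOpen_le r) m = 0 ↔ ∃ n : ℕ, r ^ n * m = 0 := by
  haveI := hW.isLocalization_basicOpen r
  refine (IsLocalization.map_eq_zero_iff (Submonoid.powers r) Γ(X, X.basicOpen r) m).trans ?_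
  exact ⟨fun ⟨⟨_, n, rfl⟩, h⟩ => ⟨n, h⟩, fun ⟨n, h⟩ => ⟨⟨r ^ n, n, rfl⟩, h⟩⟩

theorem appLE_res {X Y : Scheme.{u}} (f : Y ⟶ X) {U D : X.Opens} (hD : D ≤ U) {W E : Y.Opens} (hW : W ≤ f ⁻¹ᵁ U)
    (hE : E ≤ f ⁻¹ᵁ D) (hEW : E ≤ W) (m : Γ(X, U)) :
    (f.appLE D E hE).hom (resO X hD m) = resO Y hEW ((f.appLE U W hW).hom m) := by
  have h1 := congr($(Scheme.Hom.map_appLE f hE (homOfLE hD).op).hom m)
  have h2 := congr($(Scheme.Hom.appLE_map f hW (homOfLE hEW).op).hom m)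
  exact h1.trans h2.symm

variable {X : Scheme.{u}} {ι : Type u} {Z : ι → Scheme.{u}} (f : ∀ i, Z i ⟶ X)

/-- Affine opens of the sources over an open of the target. -/
abbrev Piece (U : X.Opens) : Type u := Σ i : ι, {W : (Z i).Opens // IsAffineOpen W ∧ W ≤ f i ⁻¹ᵁ U}

/-- The sections of a piece as a module over the functions of the target. -/
@[instance_reducible] noncomputable def pieceAlg {U : X.Opens} {i : ι} {W : (Z i).Opens} (h : W ≤ f i ⁻¹ᵁ U) :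
    Algebra Γ(X, U) Γ(Z i, W) :=
  ((f i).appLE U W h).hom.toAlgebra

section

variable {U : X.Opens} {J : Type u} (idx : J → ι) (Wj : ∀ j, (Z (idx j)).Opens) (hWj : ∀ j, Wj j ≤ f (idx j) ⁻¹ᵁ U)

/-- The family of maps on sections. -/
def SepOn : Prop :=
  letI := fun j => pieceAlg f (hWj j)
  Sep fun j => Algebra.linearMap Γ(X, U) Γ(Z (idx j), Wj j)

theorem sepOn_iff : SepOn f idx Wj hWj ↔ ∀ r m : Γ(X, U),
    (∀ j, ∃ n : ℕ, ((f (idx j)).appLE U (Wj j) (hWj j)).hom (r ^ n * m) = 0) → ∃ n : ℕ, r ^ n * m = 0 := by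
  letI := fun j => pieceAlg f (hWj j)
  have key : ∀ (r m : Γ(X, U)) j (n : ℕ), r ^ n • (Algebra.linearMap Γ(X, U) Γ(Z (idx j), Wj j)) m =
      ((f (idx j)).appLE U (Wj j) (hWj j)).hom (r ^ n * m) := fun r m j n => by
    rw [Algebra.smul_def, Algebra.linearMap_apply, ← map_mul]; rfl
  exact ⟨fun h r m hm => h r m fun j => (hm j).imp fun n hn => (key r m j n).trans hn,
    fun h r m hm => h r m fun j => (hm j).imp fun n hn => (key r m j n).symm.trans hn⟩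

/-- A schematically dominant family separates on affine pieces covering the preimages. -/
theorem sepOn_of_sepMor (h : SepMor f) (hU : IsAffineOpen U)
    (hcov : ∀ i, ∀ z ∈ f i ⁻¹ᵁ U, ∃ j, ∃ e : idx j = i, z ∈ (e ▸ Wj j : (Z i).Opens)) : SepOn f idx Wj hWj := by
  rw [sepOn_iff]
  intro r m hm
  rw [← resO_basicOpen_eq_zero_iff hU r m]
  refine h _ _ fun i => eq_zero_of_cover _ fun z hz => ?_
  obtain ⟨j, rfl, hzj⟩ := hcov i z (X.basicOpen_le r hz)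
  refine ⟨f (idx j) ⁻¹ᵁ X.basicOpen r ⊓ Wj j, inf_le_left, ⟨hz, hzj⟩, ?_⟩
  obtain ⟨n, hn⟩ := hm j
  have h2 := appLE_res (f (idx j)) (X.basicOpen_le r) (hWj j) (inf_le_left : f (idx j) ⁻¹ᵁ X.basicOpen r ⊓ Wj j ≤ _) inf_le_right (r ^ n * m)
  rw [hn, map_zero] at h2
  simp only [map_mul, map_pow] at h2
  have hu : IsUnit (resO X (X.basicOpen_le r) r) := RingedSpace.isUnit_res_basicOpen _ r
  exact ((hu.map _).pow n).mul_right_eq_zero.1 h2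

end

/-- Separation on affine opens covering the target gives schematic dominance. -/
theorem sepMor_of_cover (h : ∀ x : X, ∃ U : X.Opens, IsAffineOpen U ∧ x ∈ U ∧ ∃ (J : Type u) (idx : J → ι)
      (Wj : ∀ j, (Z (idx j)).Opens) (hWj : ∀ j, Wj j ≤ f (idx j) ⁻¹ᵁ U),
      (∀ j, IsAffineOpen (Wj j)) ∧ SepOn f idx Wj hWj) : SepMor f := by
  intro V t ht
  refine eq_zero_of_cover t fun x hx => ?_
  obtain ⟨U, hU, hxU, J, idx, Wj, hWj, haff, hsep⟩ := h x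
  obtain ⟨r, hr, hxr⟩ := hU.exists_basicOpen_le (V := V) ⟨x, hx⟩ hxU
  refine ⟨_, hr, hxr, ?_⟩
  haveI := hU.isLocalization_basicOpen r
  obtain ⟨⟨ξ, ⟨_, n, rfl⟩⟩, hξ⟩ := IsLocalization.surj (Submonoid.powers r) (resO X hr t)
  change resO X hr t * resO X (X.basicOpen_le r) (r ^ n) = resO X (X.basicOpen_le r) ξ at hξ
  have hu : IsUnit (resO X (X.basicOpen_le r) (r ^ n)) := by
    rw [map_pow]; exact (RingedSpace.isUnit_res_basicOpen _ r : IsUnit (resO X (X.basicOpen_le r) r)).pow n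
  refine hu.mul_left_eq_zero.1 ?_
  rw [hξ, resO_basicOpen_eq_zero_iff hU r ξ]
  refine (sepOn_iff f idx Wj hWj).1 hsep r ξ fun j => ?_
  have hle : (Z (idx j)).basicOpen (((f (idx j)).appLE U (Wj j) (hWj j)).hom r) ≤ f (idx j) ⁻¹ᵁ X.basicOpen r := by
    rw [Scheme.basicOpen_appLE]; exact inf_le_right
  have h3 := appLE_res (f (idx j)) (X.basicOpen_le r) (hWj j) hle ((Z (idx j)).basicOpen_le _) ξ
  have h4 : ((f (idx j)).appLE (X.basicOpen r) _ hle).hom (resO X hr t) = 0 := by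
    rw [appLE_res (f (idx j)) hr (le_rfl : f (idx j) ⁻¹ᵁ V ≤ f (idx j) ⁻¹ᵁ V) hle
      (hle.trans ((f (idx j)).preimage_mono hr)) t, Scheme.Hom.appLE_eq_app, show ((f (idx j)).app V).hom t = 0 from ht (idx j), map_zero]
  rw [← hξ, map_mul, h4, zero_mul] at h3
  obtain ⟨k, hk⟩ := (resO_basicOpen_eq_zero_iff (haff j) _ _).1 h3.symm
  exact ⟨k, by rw [map_mul, map_pow]; exact hk⟩

set_option maxHeartbeats 1000000 in
/-- Separation on an affine piece of a base change. -/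
theorem piece_iff_mor {Y A' B' : Scheme.{u}} {p : X ⟶ Y} {a : A' ⟶ Y} {b : B' ⟶ X} {m : B' ⟶ A'}
    (hpb : IsPullback b m p a) {Z' : ι → Scheme.{u}} (f' : ∀ i, Z' i ⟶ B') (c : ∀ i, Z' i ⟶ Z i)
    (hsq : ∀ i, IsPullback (c i) (f' i) (f i) b) {V : Y.Opens}
    (hV : IsAffineOpen V) {U : X.Opens} (hU : IsAffineOpen U) (hUV : U ≤ p ⁻¹ᵁ V) {O : A'.Opens}
    (hO : IsAffineOpen O) (hOV : O ≤ a ⁻¹ᵁ V) :
    letI := (p.appLE V U hUV).hom.toAlgebra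
    letI := (a.appLE V O hOV).hom.toAlgebra
    letI := fun j : Piece f U => pieceAlg f j.2.2.2
    IsAffineOpen (b ⁻¹ᵁ U ⊓ m ⁻¹ᵁ O) ∧
      (∀ j : Piece f U, IsAffineOpen (c j.1 ⁻¹ᵁ j.2.1 ⊓ f' j.1 ⁻¹ᵁ (b ⁻¹ᵁ U ⊓ m ⁻¹ᵁ O))) ∧
      (SepOn f' (U := b ⁻¹ᵁ U ⊓ m ⁻¹ᵁ O) (fun j : Piece f U => j.1)
          (fun j => c j.1 ⁻¹ᵁ j.2.1 ⊓ f' j.1 ⁻¹ᵁ (b ⁻¹ᵁ U ⊓ m ⁻¹ᵁ O)) (fun _ => inf_le_right) ↔
        SepBC (fun j : Piece f U => Algebra.linearMap Γ(X, U) Γ(Z j.1, j.2.1)) (Γ(X, U) ⊗[Γ(Y, V)] Γ(A', O))) := by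
  letI := fun j : Piece f U => pieceAlg f j.2.2.2
  let W : B'.Opens := b ⁻¹ᵁ U ⊓ m ⁻¹ᵁ O
  have hW : IsAffineOpen W := by
    haveI : IsAffine _ := hV
    haveI : IsAffine _ := hU
    haveI : IsAffine _ := hO
    exact .of_isIso (Scheme.Hom.isPullback_resLE hpb hOV hUV (rfl : W = _)).isoPullback.hom
  have hP := (isIso_pushoutSection_iff hpb hOV hUV (rfl : W = _)).1
    (isIso_pushoutSection_of_isAffineOpen hpb hOV hUV rfl hV hO hU)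
  have hWU : W ≤ b ⁻¹ᵁ U := inf_le_left
  have hWj : ∀ j : Piece f U, IsAffineOpen (c j.1 ⁻¹ᵁ j.2.1 ⊓ f' j.1 ⁻¹ᵁ W) := fun j => by
    haveI : IsAffine _ := hU
    haveI : IsAffine _ := j.2.2.1
    haveI : IsAffine _ := hW
    exact .of_isIso (Scheme.Hom.isPullback_resLE (hsq j.1) hWU j.2.2.2 (rfl : c j.1 ⁻¹ᵁ j.2.1 ⊓ f' j.1 ⁻¹ᵁ W = _)).isoPullback.hom
  have hPj : ∀ j : Piece f U, IsPushout ((f j.1).appLE U j.2.1 j.2.2.2) (b.appLE U W hWU)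
      ((c j.1).appLE j.2.1 (c j.1 ⁻¹ᵁ j.2.1 ⊓ f' j.1 ⁻¹ᵁ W) inf_le_left)
      ((f' j.1).appLE W (c j.1 ⁻¹ᵁ j.2.1 ⊓ f' j.1 ⁻¹ᵁ W) inf_le_right) := fun j =>
    (isIso_pushoutSection_iff (hsq j.1) hWU j.2.2.2 (rfl : c j.1 ⁻¹ᵁ j.2.1 ⊓ f' j.1 ⁻¹ᵁ W = _)).1
      (isIso_pushoutSection_of_isAffineOpen (hsq j.1) hWU j.2.2.2 rfl hU hW j.2.2.1)
  let A := Γ(Y, V)
  let B := Γ(X, U)
  let C := Γ(A', O)
  let B'' := Γ(B', W)
  letI : Algebra A C := (a.appLE V O hOV).hom.toAlgebra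
  letI : Algebra A B := (p.appLE V U hUV).hom.toAlgebra
  letI : Algebra B B'' := (b.appLE U W hWU).hom.toAlgebra
  letI : Algebra C B'' := (m.appLE O W inf_le_right).hom.toAlgebra
  letI : Algebra A B'' := ((algebraMap B B'').comp (algebraMap A B)).toAlgebra
  haveI : IsScalarTower A B B'' := IsScalarTower.of_algebraMap_eq fun _ => rfl
  haveI : IsScalarTower A C B'' := IsScalarTower.of_algebraMap_eq fun r => congr($(hP.w).hom r)
  haveI : Algebra.IsPushout A B C B'' := CommRingCat.isPushout_iff_isPushout.1 hP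
  let e : B ⊗[A] C ≃ₐ[B] B'' := Algebra.IsPushout.equiv A B C B''
  refine ⟨hW, hWj, ?_⟩
  letI algN : ∀ j : Piece f U, Algebra B'' Γ(Z' j.1, c j.1 ⁻¹ᵁ j.2.1 ⊓ f' j.1 ⁻¹ᵁ W) := fun j =>
    pieceAlg f' (inf_le_right : c j.1 ⁻¹ᵁ j.2.1 ⊓ f' j.1 ⁻¹ᵁ W ≤ f' j.1 ⁻¹ᵁ W)
  have hE : ∀ j : Piece f U, ∃ E : B'' ⊗[B] Γ(Z j.1, j.2.1) ≃ₗ[B''] Γ(Z' j.1, c j.1 ⁻¹ᵁ j.2.1 ⊓ f' j.1 ⁻¹ᵁ W),
      ∀ x : B, E (1 ⊗ₜ (Algebra.linearMap B Γ(Z j.1, j.2.1) x)) = algebraMap B'' _ (algebraMap B B'' x) := by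
    intro j
    letI : Algebra Γ(Z j.1, j.2.1) Γ(Z' j.1, c j.1 ⁻¹ᵁ j.2.1 ⊓ f' j.1 ⁻¹ᵁ W) :=
      ((c j.1).appLE j.2.1 _ inf_le_left).hom.toAlgebra
    letI : Algebra B Γ(Z' j.1, c j.1 ⁻¹ᵁ j.2.1 ⊓ f' j.1 ⁻¹ᵁ W) :=
      ((algebraMap B'' _).comp (algebraMap B B'')).toAlgebra
    haveI : IsScalarTower B B'' Γ(Z' j.1, c j.1 ⁻¹ᵁ j.2.1 ⊓ f' j.1 ⁻¹ᵁ W) := IsScalarTower.of_algebraMap_eq fun _ => rfl
    haveI : IsScalarTower B Γ(Z j.1, j.2.1) Γ(Z' j.1, c j.1 ⁻¹ᵁ j.2.1 ⊓ f' j.1 ⁻¹ᵁ W) :=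
      IsScalarTower.of_algebraMap_eq fun r => congr($((hPj j).w).hom r).symm
    haveI : Algebra.IsPushout B B'' Γ(Z j.1, j.2.1) Γ(Z' j.1, c j.1 ⁻¹ᵁ j.2.1 ⊓ f' j.1 ⁻¹ᵁ W) :=
      CommRingCat.isPushout_iff_isPushout.1 (hPj j).flip
    refine ⟨(Algebra.IsPushout.equiv B B'' Γ(Z j.1, j.2.1) _).toLinearEquiv, fun x => ?_⟩
    change Algebra.IsPushout.equiv B B'' Γ(Z j.1, j.2.1) _ (1 ⊗ₜ algebraMap B _ x) = _
    rw [Algebra.IsPushout.equiv_tmul, map_one, one_mul, ← IsScalarTower.algebraMap_apply]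
    rfl
  choose E hE using hE
  let Φ : B'' ⊗[B] B ≃ₗ[B''] B'' := TensorProduct.AlgebraTensorModule.rid B B'' B''
  have hnat : ∀ j y, algebraMap B'' _ (Φ y) = E j ((Algebra.linearMap B Γ(Z j.1, j.2.1)).baseChange B'' y) := by
    intro j y
    induction y using TensorProduct.induction_on with
    | zero => simp
    | tmul s x =>
      rw [LinearMap.baseChange_tmul, show s ⊗ₜ[B] Algebra.linearMap B Γ(Z j.1, j.2.1) x = s • ((1 : B'') ⊗ₜ[B] Algebra.linearMap B Γ(Z j.1, j.2.1) x) by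
        rw [smul_tmul', smul_eq_mul, mul_one], (E j).map_smul, hE, show Φ (s ⊗ₜ[B] x) = x • s from TensorProduct.AlgebraTensorModule.rid_tmul _ x s,
        Algebra.smul_def, Algebra.smul_def, map_mul, mul_comm]
    | add y z hy hz => simp only [map_add, hy, hz]
  constructor
  · intro h
    refine sepBC_of_algEquiv _ e.symm fun r => ?_
    refine sepAt_of_equiv (fun j : Piece f U => Algebra.linearMap B'' Γ(Z' j.1, c j.1 ⁻¹ᵁ j.2.1 ⊓ f' j.1 ⁻¹ᵁ W)) (r := r)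
      Φ.symm.toAddEquiv (fun j => (E j).symm.toAddEquiv) (fun x => Φ.symm.map_smul r x) (fun j x => (E j).symm.map_smul r x) (fun j x => ?_) (h r)
    apply (E j).injective
    refine (hnat j (Φ.symm x)).symm.trans ?_
    rw [Φ.apply_symm_apply]
    exact ((E j).apply_symm_apply _).symm
  · intro h r
    exact sepAt_of_equiv (fun j : Piece f U => (Algebra.linearMap B Γ(Z j.1, j.2.1)).baseChange B'') (r := r) Φ.toAddEquiv
      (fun j => (E j).toAddEquiv) (fun x => Φ.map_smul r x) (fun j x => (E j).map_smul r x) hnat (sepBC_of_algEquiv _ e h r)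

/-- Pieces cover the preimage of an affine piece of the base change. -/
theorem piece_cover {Y A' B' : Scheme.{u}} {p : X ⟶ Y} {a : A' ⟶ Y} {b : B' ⟶ X} {m : B' ⟶ A'}
    (_ : IsPullback b m p a) {Z' : ι → Scheme.{u}} (f' : ∀ i, Z' i ⟶ B') (c : ∀ i, Z' i ⟶ Z i)
    (hsq : ∀ i, IsPullback (c i) (f' i) (f i) b) (U : X.Opens) (O : A'.Opens) :
    ∀ i, ∀ z ∈ f' i ⁻¹ᵁ (b ⁻¹ᵁ U ⊓ m ⁻¹ᵁ O), ∃ j : Piece f U, ∃ e : j.1 = i,
      z ∈ (e ▸ (c j.1 ⁻¹ᵁ j.2.1 ⊓ f' j.1 ⁻¹ᵁ (b ⁻¹ᵁ U ⊓ m ⁻¹ᵁ O)) : (Z' i).Opens) := by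
  intro i z hz
  have hc : c i z ∈ f i ⁻¹ᵁ U := by
    change f i (c i z) ∈ U
    rw [← Scheme.Hom.comp_apply, (hsq i).w]
    exact hz.1
  obtain ⟨W, hW, hzW, hWU⟩ := exists_isAffineOpen_mem_and_subset (X := Z i) (x := c i z) (U := f i ⁻¹ᵁ U) hc
  exact ⟨⟨i, W, hW, hWU⟩, rfl, hzW, hz⟩

/-- The base change of a morphism over `Y` is a pullback of the morphism. -/
theorem isPullback_map {X Y A' Z : Scheme.{u}} (p : X ⟶ Y) (g : A' ⟶ Y) (f : Z ⟶ X)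
    (φ : pullback (f ≫ p) g ⟶ pullback p g) (h1 : φ ≫ pullback.fst p g = pullback.fst (f ≫ p) g ≫ f)
    (h2 : φ ≫ pullback.snd p g = pullback.snd (f ≫ p) g) :
    IsPullback (pullback.fst (f ≫ p) g) φ f (pullback.fst p g) := by
  refine IsPullback.of_bot ?_ h1.symm (IsPullback.of_hasPullback p g)
  rw [h2]
  exact IsPullback.of_hasPullback (f ≫ p) g

end Groth.Agent.SepFam
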