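import Groth.Agent.SepFam.Artin

/-!
# Residue fields of affine opens as algebras
-/

set_option autoImplicit false
set_option backward.isDefEq.respectTransparency false
set_option linter.style.haveILetI false

universe u

open CategoryTheory AlgebraicGeometry TopologicalSpace Opposite

namespace Groth.Agent.SepFam

theorem isField_Γ_Spec (k : Type u) [Field k] : IsField Γ(Spec (CommRingCat.of k), ⊤) :=
  (Scheme.ΓSpecIso (CommRingCat.of k)).commRingCatIsoToRingEquiv.toMulEquiv.isField (Field.toIsField k)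

theorem appLE_specMap_fromSpec {Y : Scheme.{u}} {V : Y.Opens} (hV : IsAffineOpen V) {R : CommRingCat.{u}}
    (φ : Γ(Y, V) ⟶ R) (h : ⊤ ≤ (Spec.map φ ≫ hV.fromSpec) ⁻¹ᵁ V) :
    (Spec.map φ ≫ hV.fromSpec).appLE V ⊤ h ≫ (Scheme.ΓSpecIso R).hom = φ := by
  rw [← Scheme.Hom.appLE_comp_appLE (Spec.map φ) hV.fromSpec V ⊤ ⊤ (by rw [hV.fromSpec_preimage_self]) le_top]
  have h1 : hV.fromSpec.appLE V ⊤ (by rw [hV.fromSpec_preimage_self]) = (Scheme.ΓSpecIso Γ(Y, V)).inv := by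
    rw [Scheme.Hom.appLE, hV.fromSpec_app_self, Category.assoc, ← Functor.map_comp]
    exact (congrArg _ ((Spec Γ(Y, V)).presheaf.map_id _)).trans (Category.comp_id _)
  rw [h1, Category.assoc]
  change (Scheme.ΓSpecIso Γ(Y, V)).inv ≫ (Spec.map φ).appLE ⊤ ((Spec.map φ) ⁻¹ᵁ ⊤) le_rfl ≫ _ = _
  rw [Scheme.Hom.appLE_eq_app]
  change (Scheme.ΓSpecIso Γ(Y, V)).inv ≫ (Spec.map φ).appTop ≫ _ = _
  rw [Scheme.ΓSpecIso_naturality, Iso.inv_hom_id_assoc]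

theorem specMap_appLE {Y : Scheme.{u}} {V : Y.Opens} {R R' : CommRingCat.{u}} (φ : R ⟶ R') (f : Spec R ⟶ Y)
    (hf : ⊤ ≤ f ⁻¹ᵁ V) (g : Spec R' ⟶ Y) (hfg : Spec.map φ ≫ f = g) (hg : ⊤ ≤ g ⁻¹ᵁ V) :
    f.appLE V ⊤ hf ≫ (Scheme.ΓSpecIso R).hom ≫ φ = g.appLE V ⊤ hg ≫ (Scheme.ΓSpecIso R').hom := by
  subst hfg
  rw [← Scheme.Hom.appLE_comp_appLE (Spec.map φ) f V ⊤ ⊤ hf le_top, Category.assoc]
  congr 1
  change _ = (Spec.map φ).appLE ⊤ ((Spec.map φ) ⁻¹ᵁ ⊤) le_rfl ≫ _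
  rw [Scheme.Hom.appLE_eq_app]
  exact (Scheme.ΓSpecIso_naturality φ).symm

/-- A prime of an affine open is seen by the residue field of the corresponding point. -/
theorem exists_residue_alg {Y : Scheme.{u}} {V : Y.Opens} (hV : IsAffineOpen V) (P : Ideal Γ(Y, V)) [P.IsPrime] :
    ∃ (s : Y) (hs : ⊤ ≤ (Y.fromSpecResidueField s) ⁻¹ᵁ V)
      (θ : Γ(Spec (Y.residueField s), ⊤) →+* P.ResidueField),
        ∀ a, θ (((Y.fromSpecResidueField s).appLE V ⊤ hs).hom a) = algebraMap Γ(Y, V) P.ResidueField a := by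
  let ψ : Γ(Y, V) ⟶ (CommRingCat.of P.ResidueField) := CommRingCat.ofHom (algebraMap Γ(Y, V) P.ResidueField)
  let g : Spec (CommRingCat.of P.ResidueField) ⟶ Y := Spec.map ψ ≫ hV.fromSpec
  obtain ⟨⟨s, φ⟩, hφ⟩ := (Scheme.SpecToEquivOfField P.ResidueField Y).symm.surjective g
  rw [Scheme.SpecToEquivOfField_symm_apply] at hφ
  have hs : ⊤ ≤ (Y.fromSpecResidueField s) ⁻¹ᵁ V := fun z _ => by
    change (Y.fromSpecResidueField s) z ∈ V
    let z₀ : Spec (CommRingCat.of P.ResidueField) := (⟨⊥, Ideal.isPrime_bot⟩ : PrimeSpectrum P.ResidueField)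
    have h1 : g z₀ ∈ V := hV.opensRange_fromSpec.le ⟨(Spec.map ψ) z₀, rfl⟩
    rw [← hφ, Scheme.Hom.comp_apply, Scheme.fromSpecResidueField_apply] at h1
    rwa [Scheme.fromSpecResidueField_apply]
  refine ⟨s, hs, ((Scheme.ΓSpecIso _).hom ≫ φ).hom, fun a => ?_⟩
  have hg : ⊤ ≤ g ⁻¹ᵁ V := fun z _ => hV.opensRange_fromSpec.le ⟨(Spec.map ψ) z, rfl⟩
  have key : (Y.fromSpecResidueField s).appLE V ⊤ hs ≫ (Scheme.ΓSpecIso _).hom ≫ φ = ψ :=
    (specMap_appLE φ (Y.fromSpecResidueField s) hs g hφ hg).trans (appLE_specMap_fromSpec hV ψ hg)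
  exact congr($(key).hom a)

end Groth.Agent.SepFam
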