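import Groth.Agent.SepFam.Artin
import Groth.Agent.CokStage.Basic
import Groth.Prelude.Def_FlatMod2

/-!
# Families of module maps which are jointly injective on sections
-/

set_option autoImplicit false
set_option backward.isDefEq.respectTransparency false
set_option linter.style.haveILetI false

universe u

open CategoryTheory CategoryTheory.Limits AlgebraicGeometry TopologicalSpace Opposite TensorProduct

namespace Groth.Agent.SepFam

open Groth.Agent.QC

variable {X : Scheme.{u}} {F : X.Modules} {ι : Type u} {G : ι → X.Modules} (u : ∀ i, F ⟶ G i)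

/-- Jointly injective on sections over all opens. -/
def SepMod : Prop :=
  ∀ (V : X.Opens) (t : ↑(F.presheaf.obj (op V))),
    (∀ i, (Scheme.Modules.Hom.mapPresheaf (u i)).app (op V) t = 0) → t = 0

theorem app_res {F G : X.Modules} (v : F ⟶ G) {V U : X.Opens} (h : V ≤ U) (s : Γ(F, U)) :
    v.app V (res F h s) = res G h (v.app U s) :=
  ConcreteCategory.congr_hom ((Scheme.Modules.Hom.mapPresheaf v).naturality (homOfLE h).op) s

theorem res_basicOpen_eq_zero_iff {G : X.Modules} (hG : Coh.IsQCoh G) {W : X.Opens} (hW : IsAffineOpen W)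
    (r : Γ(X, W)) (s : Γ(G, W)) : res G (X.basicOpen_le r) s = 0 ↔ ∃ n : ℕ, r ^ n • s = 0 := by
  refine ⟨(isLoc_of_isQCoh hW (hM := hG)).exists_pow_smul_eq_zero r s, fun ⟨n, hn⟩ => ?_⟩
  have h := congrArg (res G (X.basicOpen_le r)) hn
  rw [res_smul, map_zero, map_pow] at h
  have hu : IsUnit (resO X (X.basicOpen_le r) r) := RingedSpace.isUnit_res_basicOpen _ r
  exact (hu.pow n).smul_eq_zero.1 h

/-- Separation gives the algebraic separation on affine opens. -/
theorem sep_of_sepMod (hF : Coh.IsQCoh F) (hG : ∀ i, Coh.IsQCoh (G i)) (h : SepMod u) {W : X.Opens}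
    (hW : IsAffineOpen W) : Sep fun i => CokStage.secMap (u i) W := by
  intro r m hm
  rw [← res_basicOpen_eq_zero_iff hF hW r m]
  refine h _ _ fun i => ?_
  exact (app_res (u i) (X.basicOpen_le r) m).trans ((res_basicOpen_eq_zero_iff (hG i) hW r _).2 (hm i))

/-- Separation is checked on an affine cover. -/
theorem sepMod_of_cover (hF : Coh.IsQCoh F) (hG : ∀ i, Coh.IsQCoh (G i))
    (h : ∀ x : X, ∃ W : X.Opens, IsAffineOpen W ∧ x ∈ W ∧ Sep fun i => CokStage.secMap (u i) W) : SepMod u := by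
  intro V t ht
  refine WeakAssLib.ext_germ F t fun x hx => ?_
  obtain ⟨W, hW, hxW, hsep⟩ := h x
  obtain ⟨r, hr, hxr⟩ := hW.exists_basicOpen_le (V := V) ⟨x, hx⟩ hxW
  obtain ⟨n, ξ, hξ⟩ := (isLoc_of_isQCoh hW (hM := hF)).exists_extend r (res F hr t)
  obtain ⟨k, hk⟩ := hsep r ξ fun i => by
    refine (res_basicOpen_eq_zero_iff (hG i) hW r _).1 ?_
    change res (G i) _ ((u i).app W ξ) = 0
    rw [← app_res, hξ, Scheme.Modules.Hom.app_smul, app_res, show (u i).app V t = 0 from ht i, map_zero, smul_zero]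
  have h0 := (res_basicOpen_eq_zero_iff hF hW r ξ).2 ⟨k, hk⟩
  rw [hξ] at h0
  have hu : IsUnit (resO X (X.basicOpen_le r) r) := RingedSpace.isUnit_res_basicOpen _ r
  have h1 := (hu.pow n).smul_eq_zero.1 h0
  rw [← WeakAssLib.mgerm_res F hr hxr t, h1, map_zero]

set_option maxHeartbeats 1000000 in
/-- Separation on an affine piece of a base change. -/
theorem piece_iff {Y A' B' : Scheme.{u}} {p : X ⟶ Y} {a : A' ⟶ Y} {b : B' ⟶ X} {m : B' ⟶ A'}
    (hpb : IsPullback b m p a) (hF : Coh.IsQCoh F) (hG : ∀ i, Coh.IsQCoh (G i)) {V : Y.Opens}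
    (hV : IsAffineOpen V) {U : X.Opens} (hU : IsAffineOpen U) (hUV : U ≤ p ⁻¹ᵁ V) {O : A'.Opens}
    (hO : IsAffineOpen O) (hOV : O ≤ a ⁻¹ᵁ V) :
    letI := (p.appLE V U hUV).hom.toAlgebra
    letI := (a.appLE V O hOV).hom.toAlgebra
    IsAffineOpen (b ⁻¹ᵁ U ⊓ m ⁻¹ᵁ O) ∧
      (Sep (fun i => CokStage.secMap ((Scheme.Modules.pullback b).map (u i)) (b ⁻¹ᵁ U ⊓ m ⁻¹ᵁ O)) ↔
        SepBC (fun i => CokStage.secMap (u i) U) (Γ(X, U) ⊗[Γ(Y, V)] Γ(A', O))) := by
  let W : B'.Opens := b ⁻¹ᵁ U ⊓ m ⁻¹ᵁ O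
  have hW : IsAffineOpen W := by
    haveI : IsAffine _ := hV
    haveI : IsAffine _ := hU
    haveI : IsAffine _ := hO
    exact .of_isIso (Scheme.Hom.isPullback_resLE hpb hOV hUV (rfl : W = _)).isoPullback.hom
  have hP := (isIso_pushoutSection_iff hpb hOV hUV (rfl : W = _)).1
    (isIso_pushoutSection_of_isAffineOpen hpb hOV hUV rfl hV hO hU)
  let A := Γ(Y, V)
  let B := Γ(X, U)
  let C := Γ(A', O)
  let B'' := Γ(B', W)
  letI : Algebra A C := (a.appLE V O hOV).hom.toAlgebra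
  letI : Algebra A B := (p.appLE V U hUV).hom.toAlgebra
  letI : Algebra B B'' := (b.appLE U W inf_le_left).hom.toAlgebra
  letI : Algebra C B'' := (m.appLE O W inf_le_right).hom.toAlgebra
  letI : Algebra A B'' := ((algebraMap B B'').comp (algebraMap A B)).toAlgebra
  haveI : IsScalarTower A B B'' := IsScalarTower.of_algebraMap_eq fun _ => rfl
  haveI : IsScalarTower A C B'' := IsScalarTower.of_algebraMap_eq fun r => congr($(hP.w).hom r)
  haveI : Algebra.IsPushout A B C B'' := CommRingCat.isPushout_iff_isPushout.1 hP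
  haveI : Coh.IsQCoh F := hF
  haveI : ∀ i, Coh.IsQCoh (G i) := hG
  refine ⟨hW, ?_⟩
  obtain ⟨Φ, hΦ⟩ := ModDesc.exists_bijective_liftBaseChange b F hU hW inf_le_left
  have hG' := fun i => ModDesc.exists_bijective_liftBaseChange b (G i) hU hW inf_le_left
  choose Φ' hΦ' using hG'
  let ub (i : ι) := (Scheme.Modules.pullback b).map (u i)
  have hnat : ∀ i y, (ub i).app W (Φ y) = Φ' i ((CokStage.secMap (u i) U).baseChange B'' y) := by
    intro i y
    induction y using TensorProduct.induction_on with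
    | zero => simp
    | tmul c s =>
      rw [LinearMap.baseChange_tmul, show c ⊗ₜ[B] s = c • ((1 : B'') ⊗ₜ[B] s) by
        rw [smul_tmul', smul_eq_mul, mul_one], Φ.map_smul, hΦ, show c ⊗ₜ[B] CokStage.secMap (u i) U s =
          c • ((1 : B'') ⊗ₜ[B] CokStage.secMap (u i) U s) by
        rw [smul_tmul', smul_eq_mul, mul_one], (Φ' i).map_smul, hΦ' i, Scheme.Modules.Hom.app_smul]
      exact congrArg (c • ·) (ModDesc.app_pullSectLE b (u i) U W inf_le_left s)
    | add y z hy hz => simp only [map_add, hy, hz]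
  let e : B ⊗[A] C ≃ₐ[B] B'' := Algebra.IsPushout.equiv A B C B''
  constructor
  · intro h
    refine sepBC_of_algEquiv _ e.symm fun r => ?_
    refine sepAt_of_equiv (fun i => CokStage.secMap (ub i) W) (r := r) Φ.symm.toAddEquiv (fun i => (Φ' i).symm.toAddEquiv)
      (fun x => Φ.symm.map_smul r x) (fun i x => (Φ' i).symm.map_smul r x) (fun i x => ?_) (h r)
    apply (Φ' i).injective
    refine (hnat i (Φ.symm x)).symm.trans ?_
    rw [Φ.apply_symm_apply]
    exact ((Φ' i).apply_symm_apply _).symm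
  · intro h r
    exact sepAt_of_equiv (fun i => (CokStage.secMap (u i) U).baseChange B'') (r := r) Φ.toAddEquiv (fun i => (Φ' i).toAddEquiv)
      (fun x => Φ.map_smul r x) (fun i x => (Φ' i).map_smul r x) hnat (sepBC_of_algEquiv _ e h r)

/-- Separation after a base change, checked on affine pieces. -/
theorem sepMod_pullback {Y A' B' : Scheme.{u}} {p : X ⟶ Y} {a : A' ⟶ Y} {b : B' ⟶ X} {m : B' ⟶ A'}
    (hpb : IsPullback b m p a) (hF : Coh.IsQCoh F) (hG : ∀ i, Coh.IsQCoh (G i))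
    (h : ∀ x : B', ∃ (V : Y.Opens) (_ : IsAffineOpen V) (U : X.Opens) (_ : IsAffineOpen U) (hUV : U ≤ p ⁻¹ᵁ V)
      (O : A'.Opens) (_ : IsAffineOpen O) (hOV : O ≤ a ⁻¹ᵁ V), x ∈ b ⁻¹ᵁ U ⊓ m ⁻¹ᵁ O ∧
        (letI := (p.appLE V U hUV).hom.toAlgebra
         letI := (a.appLE V O hOV).hom.toAlgebra
         SepBC (fun i => CokStage.secMap (u i) U) (Γ(X, U) ⊗[Γ(Y, V)] Γ(A', O)))) :
    SepMod fun i => (Scheme.Modules.pullback b).map (u i) := by
  refine sepMod_of_cover _ (isQCoh_pullback b hF) (fun i => isQCoh_pullback b (hG i)) fun x => ?_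
  obtain ⟨V, hV, U, hU, hUV, O, hO, hOV, hx, hsep⟩ := h x
  obtain ⟨hW, hiff⟩ := piece_iff u hpb hF hG hV hU hUV hO hOV
  exact ⟨_, hW, hx, hiff.2 hsep⟩

/-- Affine charts around a point of a base change. -/
theorem exists_chart {Y A' B' : Scheme.{u}} {p : X ⟶ Y} {a : A' ⟶ Y} {b : B' ⟶ X} {m : B' ⟶ A'}
    (hw : b ≫ p = m ≫ a) (x : B') :
    ∃ (V : Y.Opens) (_ : IsAffineOpen V) (U : X.Opens) (_ : IsAffineOpen U) (_ : U ≤ p ⁻¹ᵁ V)
      (O : A'.Opens) (_ : IsAffineOpen O) (_ : O ≤ a ⁻¹ᵁ V), x ∈ b ⁻¹ᵁ U ⊓ m ⁻¹ᵁ O := by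
  obtain ⟨V, hV, hxV, -⟩ := exists_isAffineOpen_mem_and_subset (X := Y) (x := p (b x)) (U := ⊤) trivial
  obtain ⟨U, hU, hxU, hUV⟩ := exists_isAffineOpen_mem_and_subset (X := X) (x := b x) (U := p ⁻¹ᵁ V) hxV
  have hmx : m x ∈ a ⁻¹ᵁ V := by
    change a (m x) ∈ V
    rw [← Scheme.Hom.comp_apply, ← hw]
    exact hxV
  obtain ⟨O, hO, hxO, hOV⟩ := exists_isAffineOpen_mem_and_subset (X := A') (x := m x) (U := a ⁻¹ᵁ V) hmx
  exact ⟨V, hV, U, hU, hUV, O, hO, hOV, hxU, hxO⟩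

end Groth.Agent.SepFam
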