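import Groth.Agent.SepFam.Artin

/-!
# Separation after a flat base change
-/

set_option autoImplicit false
set_option linter.style.haveILetI false
set_option backward.isDefEq.respectTransparency false

universe u

open TensorProduct

namespace Groth.Agent.SepFam

variable {B : Type u} [CommRing B] {M : Type u} [AddCommGroup M] [Module B M] {ι : Type u}
  {N : ι → Type u} [∀ i, AddCommGroup (N i)] [∀ i, Module B (N i)] (u : ∀ i, M →ₗ[B] N i)
  (C : Type u) [CommRing C] [Algebra B C] [Module.Flat B C]

/-- A finite jointly injective family stays so after a flat base change. -/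
theorem eq_zero_of_baseChange {κ : Type u} [Finite κ] {P : Type u} [AddCommGroup P] [Module B P] {Q : κ → Type u}
    [∀ i, AddCommGroup (Q i)] [∀ i, Module B (Q i)] (v : ∀ i, P →ₗ[B] Q i)
    (hinj : ∀ p, (∀ i, v i p = 0) → p = 0) (w : C ⊗[B] P) (hw : ∀ i, (v i).baseChange C w = 0) : w = 0 := by
  classical
  haveI := Fintype.ofFinite κ
  have hp : Function.Injective (LinearMap.pi v) := (injective_iff_map_eq_zero _).2 fun p hp =>
    hinj p fun i => congrFun hp i
  refine Module.Flat.lTensor_preserves_injective_linearMap (M := C) _ hp ?_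
  refine (TensorProduct.piRight B B C Q).injective ?_
  rw [map_zero, map_zero]
  funext i
  refine Eq.trans ?_ (hw i)
  clear hw
  induction w using TensorProduct.induction_on with
  | zero => simp
  | tmul c p => simp
  | add x y hx hy => simp only [map_add, Pi.add_apply, hx, hy]

/-- Finite families. -/
theorem sepBC_flat_finite [Finite ι] (h : Sep u) : SepBC u C := by
  classical
  haveI := Fintype.ofFinite ι
  intro r w hw
  choose n hn using hw
  refine ⟨Finset.univ.sup n, eq_zero_of_baseChange C u (fun p hp => ?_) _ fun i => ?_⟩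
  · obtain ⟨k, hk⟩ := h 1 p fun i => ⟨0, by rw [pow_zero, one_smul, hp i]⟩
    simpa using hk
  · obtain ⟨c, hc⟩ := Nat.exists_eq_add_of_le (Finset.le_sup (f := n) (Finset.mem_univ i))
    rw [map_smul, hc, add_comm, pow_add, mul_smul]
    exact (congrArg _ (hn i)).trans (smul_zero _)

/-- Arbitrary families over an Artinian ring. -/
theorem sepBC_flat_artinian [IsArtinianRing B] (h : Sep u) : SepBC u C := by
  classical
  intro r w hw
  obtain ⟨M₀, hM₀, w₀, rfl⟩ : ∃ M₀ : Submodule B M, M₀.FG ∧ ∃ w₀, M₀.subtype.lTensor C w₀ = w := by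
    clear hw
    induction w using TensorProduct.induction_on with
    | zero => exact ⟨⊥, Submodule.fg_bot, 0, map_zero _⟩
    | tmul c m =>
      exact ⟨Submodule.span B {m}, Submodule.fg_span_singleton m, c ⊗ₜ ⟨m, Submodule.mem_span_singleton_self m⟩, rfl⟩
    | add x y hx hy =>
      obtain ⟨P, hP, x', rfl⟩ := hx
      obtain ⟨P', hP', y', rfl⟩ := hy
      refine ⟨P ⊔ P', hP.sup hP', (Submodule.inclusion le_sup_left).lTensor C x' + (Submodule.inclusion le_sup_right).lTensor C y', ?_⟩
      rw [map_add, ← LinearMap.lTensor_comp_apply, ← LinearMap.lTensor_comp_apply, Submodule.subtype_comp_inclusion,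
        Submodule.subtype_comp_inclusion]
  haveI : Module.Finite B M₀ := Module.Finite.iff_fg.2 hM₀
  haveI : IsArtinian B M₀ := isArtinian_of_fg_of_artinian'
  obtain ⟨s, hs⟩ : ∃ s : Finset ι, ∀ p : M₀, (∀ i ∈ s, u i p = 0) → p = 0 := by
    obtain ⟨S, ⟨s, rfl⟩, hmin⟩ := IsArtinian.set_has_minimal
      (Set.range fun s : Finset ι => ⨅ i ∈ s, LinearMap.ker ((u i).comp M₀.subtype)) (Set.range_nonempty _)
    refine ⟨s, fun p hp => ?_⟩
    have hall : ∀ i, u i p = 0 := fun i => by
      have hle : (⨅ j ∈ insert i s, LinearMap.ker ((u j).comp M₀.subtype)) ≤ ⨅ j ∈ s, LinearMap.ker ((u j).comp M₀.subtype) :=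
        biInf_mono fun j hj => Finset.mem_insert_of_mem hj
      have heq := eq_of_le_of_not_lt hle (hmin _ ⟨insert i s, rfl⟩)
      have hmem : p ∈ ⨅ j ∈ insert i s, LinearMap.ker ((u j).comp M₀.subtype) := by
        rw [heq]; simpa [Submodule.mem_iInf] using hp
      simpa using (Submodule.mem_iInf _).1 ((Submodule.mem_iInf _).1 hmem i) (Finset.mem_insert_self i s)
    obtain ⟨k, hk⟩ := h 1 (p : M) fun i => ⟨0, by rw [pow_zero, one_smul, hall i]⟩
    exact Subtype.ext (by simpa using hk)
  choose n hn using hw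
  refine ⟨s.sup n, ?_⟩
  have h0 : r ^ s.sup n • w₀ = 0 := by
    refine eq_zero_of_baseChange C (fun i : s => (u i.1).comp M₀.subtype) (fun p hp => hs p fun i hi => hp ⟨i, hi⟩) _ fun i => ?_
    obtain ⟨c, hc⟩ := Nat.exists_eq_add_of_le (Finset.le_sup (f := n) i.2)
    rw [map_smul, LinearMap.baseChange_comp, hc, add_comm, pow_add, mul_smul]
    refine Eq.trans (congrArg _ ?_) (smul_zero _)
    refine Eq.trans ?_ (hn i.1)
    rw [LinearMap.comp_apply]
    rfl
  have h1 : (M₀.subtype.baseChange C) (r ^ s.sup n • w₀) = 0 := by rw [h0, map_zero]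
  rw [map_smul] at h1
  exact h1

end Groth.Agent.SepFam
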