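import Groth.Agent.SepFam.Mod
import Groth.Agent.SepFam.Flat

/-!
# Separation on the affine pieces of a pullback
-/

set_option autoImplicit false
set_option backward.isDefEq.respectTransparency false
set_option linter.style.haveILetI false

universe u

open CategoryTheory CategoryTheory.Limits AlgebraicGeometry TopologicalSpace Opposite TensorProduct

namespace Groth.Agent.SepFam

open Groth.Agent.QC

/-- Separation on an affine open mapping into an affine open. -/
theorem sep_pullback_of_sepBC {X X' : Scheme.{u}} {F : X.Modules} {ι : Type u} {G : ι → X.Modules} (u : ∀ i, F ⟶ G i)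
    (hF : Coh.IsQCoh F) (hG : ∀ i, Coh.IsQCoh (G i)) (g : X' ⟶ X) {U : X.Opens} (hU : IsAffineOpen U)
    {W : X'.Opens} (hW : IsAffineOpen W) (hWU : W ≤ g ⁻¹ᵁ U)
    (h : letI := (g.appLE U W hWU).hom.toAlgebra
         SepBC (fun i => CokStage.secMap (u i) U) Γ(X', W)) :
    Sep (fun i => CokStage.secMap ((Scheme.Modules.pullback g).map (u i)) W) := by
  letI : Algebra Γ(X, U) Γ(X', W) := (g.appLE U W hWU).hom.toAlgebra
  haveI : Coh.IsQCoh F := hF
  haveI : ∀ i, Coh.IsQCoh (G i) := hG
  obtain ⟨Φ, hΦ⟩ := ModDesc.exists_bijective_liftBaseChange g F hU hW hWU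
  have hG' := fun i => ModDesc.exists_bijective_liftBaseChange g (G i) hU hW hWU
  choose Φ' hΦ' using hG'
  let ub (i : ι) := (Scheme.Modules.pullback g).map (u i)
  have hnat : ∀ i y, (ub i).app W (Φ y) = Φ' i ((CokStage.secMap (u i) U).baseChange Γ(X', W) y) := by
    intro i y
    induction y using TensorProduct.induction_on with
    | zero => simp
    | tmul c s =>
      rw [LinearMap.baseChange_tmul, show c ⊗ₜ[Γ(X, U)] s = c • ((1 : Γ(X', W)) ⊗ₜ[Γ(X, U)] s) by
        rw [smul_tmul', smul_eq_mul, mul_one], Φ.map_smul, hΦ, show c ⊗ₜ[Γ(X, U)] CokStage.secMap (u i) U s =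
          c • ((1 : Γ(X', W)) ⊗ₜ[Γ(X, U)] CokStage.secMap (u i) U s) by
        rw [smul_tmul', smul_eq_mul, mul_one], (Φ' i).map_smul, hΦ' i, Scheme.Modules.Hom.app_smul]
      exact congrArg (c • ·) (ModDesc.app_pullSectLE g (u i) U W hWU s)
    | add y z hy hz => simp only [map_add, hy, hz]
  intro r
  exact sepAt_of_equiv (fun i => (CokStage.secMap (u i) U).baseChange Γ(X', W)) (r := r) Φ.toAddEquiv (fun i => (Φ' i).toAddEquiv)
    (fun x => Φ.map_smul r x) (fun i x => (Φ' i).map_smul r x) hnat (h r)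

end Groth.Agent.SepFam
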