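import Groth.Agent.SepFam.Mod

/-!
# Separation lifts along a nilpotent ideal with free graded pieces
-/

set_option autoImplicit false
set_option linter.style.haveILetI false
set_option backward.isDefEq.respectTransparency false

universe u

open TensorProduct

namespace Groth.Agent.SepFam

variable {A : Type u} [CommRing A] {B : Type u} [CommRing B] [Algebra A B]
  {M : Type u} [AddCommGroup M] [Module B M] [Module A M] [IsScalarTower A B M] {ι : Type u}
  {N : ι → Type u} [∀ i, AddCommGroup (N i)] [∀ i, Module B (N i)] [∀ i, Module A (N i)]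
  [∀ i, IsScalarTower A B (N i)] (u : ∀ i, M →ₗ[B] N i)

/-- Over a base with a nilpotent ideal with free graded pieces, separation is checked modulo the ideal. -/
theorem sepAt_of_nilpotent_ideal {J : Ideal A} (hJ : IsNilpotent J)
    (hfree : ∀ k : ℕ, Module.Free (A ⧸ J) ((A ⧸ J) ⊗[A] ↥(J ^ k)))
    [∀ i, Module.Flat A (N i)] {r : B} (h : SepAt (tX A u (A ⧸ J)) r) : SepAt u r := by
  intro m hm
  let jn (n : ℕ) : ↥(J ^ n) →ₗ[A] A := (J ^ n).subtype
  let x : M ⊗[A] A := m ⊗ₜ 1
  have hx : ∀ i, ∃ n : ℕ, r ^ n • tX A u A i x = 0 := fun i => by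
    obtain ⟨n, hn⟩ := hm i
    exact ⟨n, by simp [x, smul_tmul', hn]⟩
  have H : ∀ n, ∃ l : ℕ, r ^ l • x ∈ Set.range ((jn n).lTensor M) := by
    intro n
    induction n with
    | zero => exact ⟨0, m ⊗ₜ ⟨1, by simp⟩, by simp [x, jn]⟩
    | succ n ih =>
      let Y := (A ⧸ J) ⊗[A] ↥(J ^ n)
      haveI : Module.Free (A ⧸ J) Y := hfree n
      let b := Module.Free.chooseBasis (A ⧸ J) Y
      let q : ↥(J ^ n) →ₗ[A] Y := TensorProduct.mk A (A ⧸ J) ↥(J ^ n) 1
      have hqs : Function.Surjective q := by
        intro y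
        induction y using TensorProduct.induction_on with
        | zero => exact ⟨0, map_zero _⟩
        | tmul c a =>
          obtain ⟨c, rfl⟩ := Ideal.Quotient.mk_surjective c
          refine ⟨c • a, ?_⟩
          rw [map_smul, TensorProduct.mk_apply, smul_tmul', Algebra.smul_def, mul_one]
          rfl
        | add y y' hy hy' =>
          obtain ⟨a, rfl⟩ := hy
          obtain ⟨a', rfl⟩ := hy'
          exact ⟨a + a', map_add _ _ _⟩
      have hle : J ^ (n + 1) ≤ J ^ n := Ideal.pow_le_pow_right n.le_succ
      have hex : Function.Exact (Submodule.inclusion hle) q := fun a => by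
        have e : q a = 0 ↔ a ∈ J • (⊤ : Submodule A ↥(J ^ n)) := by
          rw [← (quotTensorEquivQuotSMul (↥(J ^ n)) J).map_eq_zero_iff, show q a = (1 : A ⧸ J) ⊗ₜ[A] a from rfl,
            quotTensorEquivQuotSMul_mk_one_tmul, Submodule.Quotient.mk_eq_zero]
        rw [e, Submodule.mem_smul_top_iff, smul_eq_mul, ← pow_succ']
        exact ⟨fun h => ⟨⟨a, h⟩, rfl⟩, fun ⟨y, hy⟩ => by rw [← hy]; exact y.2⟩
      exact exists_step u (jn n) Subtype.val_injective _ q hqs hex
        (sepAt_finsupp u (b.repr.restrictScalars A) h) hx ih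
  obtain ⟨N₀, hN₀⟩ := hJ
  obtain ⟨l, z, hz⟩ := H N₀
  have hj : jn N₀ = 0 := LinearMap.ext fun t => by
    have := t.2
    simp only [hN₀, Ideal.zero_eq_bot, Ideal.mem_bot] at this
    exact this
  rw [hj, LinearMap.lTensor_zero, LinearMap.zero_apply] at hz
  refine ⟨l, ?_⟩
  have h1 := congrArg (TensorProduct.rid A M) hz
  rw [map_zero] at h1
  simp only [x, smul_tmul', TensorProduct.rid_tmul, one_smul] at h1
  exact h1.symm

/-- `SepBC` on a base change from `A`, in the form used by the induction. -/
theorem sepAt_tX_of_sepBC' {K : Type u} [CommRing K] [Algebra A K] (r : B) (h : SepBC u (B ⊗[A] K)) :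
    SepAt (tX A u K) r := by
  refine sepAt_of_equiv (fun i => (u i).baseChange (B ⊗[A] K)) (r := algebraMap B (B ⊗[A] K) r)
    (cancel B A K M).toAddEquiv (fun i => (cancel B A K (N i)).toAddEquiv) (fun z => ?_) (fun i z => ?_) (fun i z => ?_) (h _)
  · rw [algebraMap_smul]; exact (cancel B A K M).map_smul r z
  · rw [algebraMap_smul]; exact (cancel B A K (N i)).map_smul r z
  · induction z using TensorProduct.induction_on with
    | zero => simp
    | tmul c q =>
      induction c using TensorProduct.induction_on with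
      | zero => simp
      | tmul b t => simp [cancel_tmul]
      | add x y hx hy => simp only [add_tmul, map_add, hx, hy]
    | add x y hx hy => simp only [map_add, hx, hy]

end Groth.Agent.SepFam
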