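import Mathlib

/-!
# Families of linear maps which are jointly injective on all basic opens
-/

set_option autoImplicit false
set_option linter.style.haveILetI false

universe u

open TensorProduct

namespace Groth.Agent.SepFam

variable {B : Type u} [CommRing B] {M : Type u} [AddCommGroup M] [Module B M] {ι : Type u}
  {N : ι → Type u} [∀ i, AddCommGroup (N i)] [∀ i, Module B (N i)]

/-- Jointly injective on the basic open of `r`. -/
def SepAt (u : ∀ i, M →ₗ[B] N i) (r : B) : Prop :=
  ∀ m : M, (∀ i, ∃ n : ℕ, r ^ n • u i m = 0) → ∃ n : ℕ, r ^ n • m = 0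

/-- Jointly injective on every basic open. -/
def Sep (u : ∀ i, M →ₗ[B] N i) : Prop := ∀ r, SepAt u r

/-- Jointly injective on every basic open after base change to `C`. -/
def SepBC (u : ∀ i, M →ₗ[B] N i) (C : Type u) [CommRing C] [Algebra B C] : Prop :=
  Sep fun i => (u i).baseChange C

variable (u : ∀ i, M →ₗ[B] N i)

/-- If the powers of finitely many elements kill `x`, so do those of any element of their span. -/
theorem exists_pow_smul_eq_zero_of_mem_span {C X : Type u} [CommRing C] [AddCommGroup X] [Module C X]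
    {S : Set C} {x : X} (h : ∀ s ∈ S, ∃ n : ℕ, s ^ n • x = 0) {r : C} (hr : r ∈ (Ideal.span S).radical) :
    ∃ n : ℕ, r ^ n • x = 0 := by
  have hle : Ideal.span S ≤ Ideal.radical (LinearMap.ker (LinearMap.toSpanSingleton C X x)) :=
    Ideal.span_le.2 fun s hs => by
      obtain ⟨n, hn⟩ := h s hs
      exact ⟨n, hn⟩
  obtain ⟨n, hn⟩ := Ideal.radical_le_radical_iff.2 hle hr
  exact ⟨n, hn⟩

/-- Transport along isomorphisms. -/
theorem sepAt_of_equiv {B' M' : Type u} [CommRing B'] [AddCommGroup M'] [Module B' M'] {N' : ι → Type u}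
    [∀ i, AddCommGroup (N' i)] [∀ i, Module B' (N' i)] {u' : ∀ i, M' →ₗ[B'] N' i} {r : B} {r' : B'}
    (eM : M ≃+ M') (eN : ∀ i, N i ≃+ N' i) (hM : ∀ m, eM (r • m) = r' • eM m)
    (hN : ∀ i m, eN i (r • m) = r' • eN i m) (hu : ∀ i m, u' i (eM m) = eN i (u i m)) (h : SepAt u r) :
    SepAt u' r' := by
  have hM' : ∀ (n : ℕ) m, eM (r ^ n • m) = r' ^ n • eM m := fun n => by
    induction n with
    | zero => simp
    | succ n ih => intro m; rw [pow_succ, pow_succ, mul_smul, mul_smul, ih, hM]
  have hN' : ∀ i (n : ℕ) m, eN i (r ^ n • m) = r' ^ n • eN i m := fun i n => by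
    induction n with
    | zero => simp
    | succ n ih => intro m; rw [pow_succ, pow_succ, mul_smul, mul_smul, ih, hN]
  intro m hm
  obtain ⟨n, hn⟩ := h (eM.symm m) fun i => by
    obtain ⟨n, hn⟩ := hm i
    refine ⟨n, (eN i).injective ?_⟩
    rw [hN', map_zero, ← hu, AddEquiv.apply_symm_apply, hn]
  refine ⟨n, ?_⟩
  rw [← eM.apply_symm_apply m, ← hM', hn, map_zero]

/-- Invariance of `SepBC` under algebra isomorphisms. -/
theorem sepBC_of_algEquiv {C C' : Type u} [CommRing C] [Algebra B C] [CommRing C'] [Algebra B C']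
    (σ : C ≃ₐ[B] C') (h : SepBC u C) : SepBC u C' := by
  intro r'
  refine sepAt_of_equiv (fun i => (u i).baseChange C) (r := σ.symm r')
    (LinearEquiv.rTensor M σ.toLinearEquiv).toAddEquiv (fun i => (LinearEquiv.rTensor (N i) σ.toLinearEquiv).toAddEquiv)
    (fun m => ?_) (fun i m => ?_) (fun i m => ?_) (h _)
  · induction m using TensorProduct.induction_on with
    | zero => simp
    | tmul c m => simp [smul_tmul']
    | add x y hx hy => simp only [smul_add, map_add, hx, hy]
  · induction m using TensorProduct.induction_on with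
    | zero => simp
    | tmul c m => simp [smul_tmul']
    | add x y hx hy => simp only [smul_add, map_add, hx, hy]
  · induction m using TensorProduct.induction_on with
    | zero => simp
    | tmul c m => simp
    | add x y hx hy => simp only [map_add, hx, hy]

/-- The scalars of `B` still separate after a free base change. -/
theorem sepAt_algebraMap_of_free {C : Type u} [CommRing C] [Algebra B C] [Module.Free B C] {f : B}
    (h : SepAt u f) : SepAt (fun i => (u i).baseChange C) (algebraMap B C f) := by
  classical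
  let b := Module.Free.chooseBasis B C
  intro w hw
  let coord := TensorProduct.equivFinsuppOfBasisLeft b (N := M)
  have hcoord : ∀ i a (w : C ⊗[B] M), TensorProduct.equivFinsuppOfBasisLeft b (N := N i) ((u i).baseChange C w) a =
      u i (coord w a) := by
    intro i a w
    clear hw
    induction w using TensorProduct.induction_on with
    | zero => simp
    | tmul c m => simp [coord]
    | add x y hx hy => simp only [map_add, Finsupp.add_apply, hx, hy]
  have hm : ∀ a, ∃ n : ℕ, f ^ n • coord w a = 0 := fun a => h _ fun i => by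
    obtain ⟨n, hn⟩ := hw i
    refine ⟨n, ?_⟩
    rw [← map_pow, algebraMap_smul] at hn
    rw [← hcoord, ← Finsupp.smul_apply, ← map_smul, hn, map_zero, Finsupp.zero_apply]
  choose n hn using hm
  refine ⟨(coord w).support.sup n, coord.injective ?_⟩
  rw [← map_pow, algebraMap_smul, map_smul, map_zero]
  ext a
  rw [Finsupp.smul_apply, Finsupp.zero_apply]
  by_cases ha : a ∈ (coord w).support
  · obtain ⟨k, hk⟩ := Nat.exists_eq_add_of_le (Finset.le_sup (f := n) ha)
    rw [hk, add_comm, pow_add, mul_smul, hn, smul_zero]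
  · rw [Finsupp.notMem_support_iff.1 ha, smul_zero]

/-- An element killed by powers of `s` and `r`, with `c * z ≡ h * z` modulo `r`, dies. -/
theorem exists_pow_smul_eq_zero_of_sub_mem {C X : Type u} [CommRing C] [AddCommGroup X] [Module C X]
    {c h r q : C} (hch : h = c + r * q) {x : X} (hh : ∃ n : ℕ, h ^ n • x = 0) (hr : ∃ n : ℕ, r ^ n • x = 0) :
    ∃ n : ℕ, c ^ n • x = 0 := by
  refine exists_pow_smul_eq_zero_of_mem_span (S := {h, r}) (by simp [hh, hr]) (Ideal.le_radical ?_)
  refine Ideal.mem_span_pair.2 ⟨1, -q, ?_⟩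
  rw [hch]; ring

/-- **Free integral base change preserves separation.** -/
theorem sepBC_of_free_of_integral (C : Type u) [CommRing C] [Algebra B C] [Module.Free B C]
    [Algebra.IsIntegral B C] (h : Sep u) : SepBC u C := by
  intro r w hw
  obtain ⟨χ, hχ, hr⟩ := Algebra.IsIntegral.isIntegral (R := B) r
  let c : ℕ → C := fun j => algebraMap B C (χ.coeff j)
  have key : ∀ j, ∃ n : ℕ, (c j * r) ^ n • w = 0 := by
    intro j
    induction j using Nat.strong_induction_on with
    | _ j IH =>
      -- the relation `r ^ j * h + ρ = 0`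
      let q : C := ∑ k ∈ Finset.range χ.natDegree, algebraMap B C (χ.coeff (j + 1 + k)) * r ^ k
      let hh : C := c j + r * q
      let ρ : C := ∑ k ∈ Finset.range j, c k * r ^ k
      have hrel : r ^ j * hh + ρ = 0 := by
        have h0 : Polynomial.aeval r χ = 0 := hr
        rw [Polynomial.aeval_eq_sum_range' (show χ.natDegree < j + 1 + χ.natDegree by omega),
          Finset.sum_range_add, Finset.sum_range_succ] at h0
        simp only [Algebra.smul_def] at h0
        refine Eq.trans ?_ h0
        simp only [hh, q, ρ, c, mul_add, Finset.mul_sum]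
        ring_nf
      -- `r * hh` kills a power-translate of `w`
      have hρ : ∀ k ∈ Finset.range j, ∃ n : ℕ, (c k * r) ^ n • w = 0 := fun k hk => IH k (Finset.mem_range.1 hk)
      have h1 : ∃ n : ℕ, (r * hh) ^ n • w = 0 := by
        refine exists_pow_smul_eq_zero_of_mem_span (X := C ⊗[B] M) (x := w) (S := (fun k => c k * r) '' (Finset.range j : Set ℕ))
          (by rintro _ ⟨k, hk, rfl⟩; exact hρ k hk) ?_
        refine ⟨j + 1, ?_⟩
        have e : (r * hh) ^ (j + 1) = -(ρ * r) * hh ^ j := by
          rw [mul_pow, pow_succ r j, pow_succ hh j]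
          linear_combination r * hh ^ j * hrel
        rw [e]
        refine Ideal.mul_mem_right _ _ (neg_mem ?_)
        simp only [ρ, Finset.sum_mul]
        exact sum_mem fun k hk => by
          rw [mul_right_comm]
          exact Ideal.mul_mem_right _ _ (Ideal.subset_span ⟨k, hk, rfl⟩)
      obtain ⟨n, hn⟩ := h1
      -- `r ^ n • w` is killed by a power of `hh`, and its images by powers of `r`
      obtain ⟨m, hm⟩ := sepAt_algebraMap_of_free (C := C) u (h (χ.coeff j)) (r ^ n • w) fun i => by
        obtain ⟨l, hl⟩ := hw i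
        refine exists_pow_smul_eq_zero_of_sub_mem (c := c j) (h := hh) (r := r) (q := q) rfl
          ⟨n, ?_⟩ ⟨l, ?_⟩
        · rw [map_smul, smul_smul, ← mul_pow, mul_comm hh r, ← map_smul, hn, map_zero]
        · rw [map_smul, smul_smul, ← pow_add, add_comm, pow_add, mul_smul, hl, smul_zero]
      refine ⟨m + n, ?_⟩
      rw [smul_smul] at hm
      rw [mul_pow, pow_add, pow_add, show c j ^ m * c j ^ n * (r ^ m * r ^ n) =
        c j ^ n * r ^ m * (c j ^ m * r ^ n) by ring, mul_smul, hm, smul_zero]
  obtain ⟨n, hn⟩ := key χ.natDegree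
  refine ⟨n, ?_⟩
  rwa [show c χ.natDegree = 1 by simp [c, hχ.leadingCoeff], one_mul] at hn

end Groth.Agent.SepFam
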