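import Groth.Agent.SepFam.Bridge

/-!
# Separation over a field after an arbitrary base change
-/

set_option autoImplicit false
set_option linter.style.haveILetI false
set_option backward.isDefEq.respectTransparency false

universe u

open TensorProduct

namespace Groth.Agent.SepFam

section

variable {A : Type u} [CommRing A] {B : Type u} [CommRing B] [Algebra A B]
  {M : Type u} [AddCommGroup M] [Module B M] [Module A M] [IsScalarTower A B M] {ι : Type u}
  {N : ι → Type u} [∀ i, AddCommGroup (N i)] [∀ i, Module B (N i)] [∀ i, Module A (N i)]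
  [∀ i, IsScalarTower A B (N i)] (u : ∀ i, M →ₗ[B] N i)

/-- Over a local ring with nilpotent maximal ideal, separation is checked on the closed fibre. -/
theorem sepAt_of_nilpotent [IsLocalRing A] {N₀ : ℕ} (hA : IsLocalRing.maximalIdeal A ^ N₀ = ⊥)
    [∀ i, Module.Flat A (N i)] {r : B}
    (h : SepAt (tX A u (IsLocalRing.maximalIdeal A).ResidueField) r) : SepAt u r := by
  intro m hm
  let p := IsLocalRing.maximalIdeal A
  let R := Localization.AtPrime p
  let 𝔪 := IsLocalRing.maximalIdeal R
  let jn (n : ℕ) : ↥(𝔪 ^ n) →ₗ[A] R := ((𝔪 ^ n).subtype).restrictScalars A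
  let x : M ⊗[A] R := m ⊗ₜ 1
  have hx : ∀ i, ∃ n : ℕ, r ^ n • tX A u R i x = 0 := fun i => by
    obtain ⟨n, hn⟩ := hm i
    exact ⟨n, by simp [x, smul_tmul', hn]⟩
  have H : ∀ n, ∃ l : ℕ, r ^ l • x ∈ Set.range ((jn n).lTensor M) := by
    intro n
    induction n with
    | zero => exact ⟨0, m ⊗ₜ ⟨1, by simp⟩, by simp [x, jn]⟩
    | succ n ih =>
      obtain ⟨σ, Y, _, _, e, q, hqs, hex⟩ := exists_gr_equiv p n
      exact exists_step u (jn n) Subtype.val_injective _ q hqs hex (sepAt_finsupp u e h) hx ih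
  obtain ⟨l, z, hz⟩ := H N₀
  have hbot : 𝔪 ^ N₀ = ⊥ := by
    rw [show 𝔪 = p.map (algebraMap A R) from Localization.AtPrime.map_eq_maximalIdeal.symm, ← Ideal.map_pow, hA, Ideal.map_bot]
  have hj : jn N₀ = 0 := LinearMap.ext fun t => (Ideal.mem_bot.1 (hbot ▸ t.2 : (t : R) ∈ (⊥ : Ideal R)))
  rw [hj, LinearMap.lTensor_zero, LinearMap.zero_apply] at hz
  refine ⟨l, ?_⟩
  have hu : ∀ s : p.primeCompl, IsUnit ((RingHom.id A) s) := fun s => IsLocalRing.notMem_maximalIdeal.1 s.2
  let back : R →ₗ[A] A := (IsLocalization.liftAlgHom (M := p.primeCompl) (f := AlgHom.id A A) hu).toLinearMap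
  have h1 := congrArg ((TensorProduct.rid A M).toLinearMap.comp (back.lTensor M)) hz
  rw [map_zero] at h1
  simp only [x, smul_tmul', LinearMap.comp_apply, LinearMap.lTensor_tmul, LinearEquiv.coe_coe, TensorProduct.rid_tmul] at h1
  rw [h1, show back 1 = 1 from map_one (IsLocalization.liftAlgHom (M := p.primeCompl) (f := AlgHom.id A A) hu), one_smul]

end

variable {B : Type u} [CommRing B] {M : Type u} [AddCommGroup M] [Module B M] {ι : Type u}
  {N : ι → Type u} [∀ i, AddCommGroup (N i)] [∀ i, Module B (N i)] (u : ∀ i, M →ₗ[B] N i)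
  {k : Type u} [Field k] [Algebra k B]

/-- Separation after base change to a local `k`-algebra with nilpotent maximal ideal. -/
theorem sepBC_nilpotent (h : Sep u) {R : Type u} [CommRing R] [Algebra k R] [IsLocalRing R] {N₀ : ℕ}
    (hR : IsLocalRing.maximalIdeal R ^ N₀ = ⊥) : SepBC u (B ⊗[k] R) := by
  letI : Algebra R (B ⊗[k] R) := Algebra.TensorProduct.rightAlgebra
  letI : ∀ i, Module k (N i) := fun i => Module.compHom (N i) (algebraMap k B)
  haveI : ∀ i, IsScalarTower k B (N i) := fun i => IsScalarTower.of_algebraMap_smul fun _ _ => rfl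
  have hflat : ∀ i, Module.Flat R ((B ⊗[k] R) ⊗[B] N i) := by
    intro i
    let e : (B ⊗[k] R) ⊗[B] N i ≃+ R ⊗[k] N i :=
      (cancel B k R (N i)).toAddEquiv.trans (TensorProduct.comm k (N i) R).toAddEquiv
    refine Module.Flat.of_linearEquiv (R := R) (M := R ⊗[k] N i) (e.toLinearEquiv fun a z => ?_)
    induction z using TensorProduct.induction_on with
    | zero => simp
    | tmul c q =>
      induction c using TensorProduct.induction_on with
      | zero => simp
      | tmul b t =>
        rw [smul_tmul', Algebra.smul_def, Algebra.TensorProduct.right_algebraMap_apply, Algebra.TensorProduct.tmul_mul_tmul, one_mul]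
        simp [e, cancel_tmul, smul_tmul']
      | add x y hx hy => simp only [add_tmul, smul_add, map_add, hx, hy]
    | add x y hx hy => simp only [smul_add, map_add, hx, hy]
  intro r
  refine sepAt_of_nilpotent (A := R) (N := fun i => (B ⊗[k] R) ⊗[B] N i) _ hR ?_
  refine sepAt_tX_of_sepBC u (fun a => rfl) r ?_
  exact sepBC_field u h

/-- A finitely generated algebra embeds in finitely many local algebras with nilpotent maximal ideal. -/
theorem exists_nilpotent_family (S : Type u) [CommRing S] [IsNoetherianRing S] :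
    ∃ t : Finset (Ideal S), ∃ R : t → Type u, ∃ _ : ∀ j, CommRing (R j), ∃ _ : ∀ j, IsLocalRing (R j),
      ∃ f : ∀ j, S →+* R j, (∀ j, ∃ n, IsLocalRing.maximalIdeal (R j) ^ n = ⊥) ∧
        ∀ x, (∀ j, f j x = 0) → x = 0 := by
  obtain ⟨t, ht, hprim⟩ : ∃ t : Finset (Ideal S), t.inf id = ⊥ ∧ ∀ ⦃J⦄, J ∈ t → Ideal.IsPrimary J :=
    Submodule.isLasker S S (⊥ : Ideal S)
  haveI hp : ∀ j : t, (j.1.radical).IsPrime := fun j => Ideal.isPrime_radical (hprim j.2)
  have hle : ∀ (j : t) (s : S), s ∈ j.1.radical.primeCompl → ∀ x, s * x ∈ j.1 → x ∈ j.1 := fun j s hs x hx =>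
    ((Ideal.isPrimary_iff.1 (hprim j.2)).2 (show x * s ∈ j.1 from mul_comm s x ▸ hx)).resolve_right hs
  haveI hP : ∀ j : t, (j.1.radical.map (Ideal.Quotient.mk j.1)).IsPrime := fun j =>
    Ideal.map_isPrime_of_surjective Ideal.Quotient.mk_surjective (by rw [Ideal.mk_ker]; exact Ideal.le_radical)
  let P (j : t) := j.1.radical.map (Ideal.Quotient.mk j.1)
  refine ⟨t, fun j => Localization.AtPrime (P j), inferInstance, inferInstance,
    fun j => (algebraMap (S ⧸ j.1) (Localization.AtPrime (P j))).comp (Ideal.Quotient.mk j.1), fun j => ?_, fun x hx => ?_⟩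
  · obtain ⟨n, hn⟩ := j.1.exists_radical_pow_le_of_fg (IsNoetherian.noetherian _)
    refine ⟨n, ?_⟩
    rw [← Localization.AtPrime.map_eq_maximalIdeal, ← Ideal.map_pow, ← Ideal.map_pow,
      Ideal.map_eq_bot_iff_le_ker (Ideal.Quotient.mk j.1) |>.2 (by rw [Ideal.mk_ker]; exact hn), Ideal.map_bot]
  · refine (Submodule.mem_bot S).1 (ht ▸ Submodule.mem_finsetInf.2 fun q hq => ?_)
    obtain ⟨⟨c, hc⟩, hcx⟩ := (IsLocalization.map_eq_zero_iff (P ⟨q, hq⟩).primeCompl _ _).1 (hx ⟨q, hq⟩)
    obtain ⟨s, rfl⟩ := Ideal.Quotient.mk_surjective c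
    refine hle ⟨q, hq⟩ s (fun hs => hc (Ideal.mem_map_of_mem _ hs)) x ?_
    rwa [← map_mul, Ideal.Quotient.eq_zero_iff_mem] at hcx

/-- **Over a field separation is preserved by every base change.** -/
theorem sepBC_over_field (h : Sep u) (A' : Type u) [CommRing A'] [Algebra k A'] : SepBC u (B ⊗[k] A') := by
  classical
  letI : Module k M := Module.compHom M (algebraMap k B)
  haveI : IsScalarTower k B M := IsScalarTower.of_algebraMap_smul fun _ _ => rfl
  letI : ∀ i, Module k (N i) := fun i => Module.compHom (N i) (algebraMap k B)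
  haveI : ∀ i, IsScalarTower k B (N i) := fun i => IsScalarTower.of_algebraMap_smul fun _ _ => rfl
  refine sepBC_tensor_of_fg u A' fun S hS => ?_
  haveI : Algebra.FiniteType k S := ⟨(Subalgebra.fg_top S).2 hS⟩
  haveI : IsNoetherianRing S := Algebra.FiniteType.isNoetherianRing k S
  obtain ⟨t, R, _, _, f, hnil, hinj⟩ := exists_nilpotent_family S
  intro r w hw
  letI : ∀ j, Algebra k (R j) := fun j => ((f j).comp (algebraMap k S)).toAlgebra
  let g (j : t) : S →ₐ[k] R j := { f j with commutes' := fun _ => rfl }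
  let σ (j : t) : B ⊗[k] S →ₐ[B] B ⊗[k] R j := Algebra.TensorProduct.map (AlgHom.id B B) (g j)
  have hj : ∀ j, ∃ n : ℕ, (σ j).toLinearMap.rTensor M (r ^ n • w) = 0 := fun j => by
    obtain ⟨N₀, hN₀⟩ := hnil j
    obtain ⟨n, hn⟩ := sepBC_nilpotent (k := k) u h hN₀ (σ j r) ((σ j).toLinearMap.rTensor M w) fun i => by
      obtain ⟨n, hn⟩ := hw i
      refine ⟨n, ?_⟩
      have h4 := congrArg ((σ j).toLinearMap.rTensor (N i)) hn
      rw [rTensor_algHom_pow_smul, map_zero] at h4
      rw [← h4]
      congr 1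
      simp only [LinearMap.baseChange_eq_ltensor]
      exact ((LinearMap.congr_fun (LinearMap.rTensor_comp_lTensor (f := (σ j).toLinearMap) (g := u i)) w).trans
        (LinearMap.congr_fun (LinearMap.lTensor_comp_rTensor (f := (σ j).toLinearMap) (g := u i)) w).symm).symm
    exact ⟨n, by rw [rTensor_algHom_pow_smul, hn]⟩
  choose n hn using hj
  let L := Finset.univ.sup n
  refine ⟨L, ?_⟩
  have hL : ∀ j, (σ j).toLinearMap.rTensor M (r ^ L • w) = 0 := fun j => by
    obtain ⟨c, hc⟩ := Nat.exists_eq_add_of_le (Finset.le_sup (f := n) (Finset.mem_univ j))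
    rw [rTensor_algHom_pow_smul, show L = n j + c from hc, pow_add, mul_comm, mul_smul, ← rTensor_algHom_pow_smul (σ j) M r (n j) w, hn, smul_zero]
  refine (cancel B k S M).injective ?_
  rw [map_zero]
  let b := Module.Free.chooseBasis k M
  refine (TensorProduct.equivFinsuppOfBasisLeft b (N := S)).injective ?_
  rw [map_zero]
  ext a
  rw [Finsupp.zero_apply]
  refine congrArg Subtype.val (hinj _ fun j => ?_)
  have key : ∀ z : (B ⊗[k] S) ⊗[B] M, TensorProduct.equivFinsuppOfBasisLeft b (N := R j) (cancel B k (R j) M ((σ j).toLinearMap.rTensor M z)) a =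
      g j (TensorProduct.equivFinsuppOfBasisLeft b (N := S) (cancel B k S M z) a) := by
    intro z
    induction z using TensorProduct.induction_on with
    | zero => simp
    | tmul c m =>
      induction c using TensorProduct.induction_on with
      | zero => simp
      | tmul b' s => simp [σ, cancel_tmul]
      | add x y hx hy => simp only [add_tmul, map_add, Finsupp.add_apply, hx, hy]
    | add x y hx hy => simp only [map_add, Finsupp.add_apply, hx, hy]
  refine (key _).symm.trans ?_
  rw [hL, map_zero, map_zero, Finsupp.zero_apply]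

end Groth.Agent.SepFam
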