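import Groth.Agent.SepFam.Krull

/-!
# Separation after an arbitrary base change
-/

set_option autoImplicit false
set_option linter.style.haveILetI false
set_option backward.isDefEq.respectTransparency false

universe u

open TensorProduct

namespace Groth.Agent.SepFam

variable {B : Type u} [CommRing B] {M : Type u} [AddCommGroup M] [Module B M] {ι : Type u}
  {N : ι → Type u} [∀ i, AddCommGroup (N i)] [∀ i, Module B (N i)] (u : ∀ i, M →ₗ[B] N i)

/-- Separation over a union of subalgebras. -/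
theorem sepBC_of_sub {C : Type u} [CommRing C] [Algebra B C]
    (h : ∀ (r : C) (w : C ⊗[B] M), ∃ (C' : Type u) (_ : CommRing C') (_ : Algebra B C') (σ : C' →ₐ[B] C) (r₀ : C')
      (w₀ : C' ⊗[B] M), σ r₀ = r ∧ σ.toLinearMap.rTensor M w₀ = w ∧
        (∀ i, Function.Injective (σ.toLinearMap.rTensor (N i))) ∧ SepBC u C') : SepBC u C := by
  intro r w hw
  obtain ⟨C', _, _, σ, r₀, w₀, hr, hw₀, hinj, hsep⟩ := h r w
  obtain ⟨n, hn⟩ := hsep r₀ w₀ fun i => by
    obtain ⟨n, hn⟩ := hw i
    refine ⟨n, hinj i ?_⟩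
    rw [rTensor_algHom_pow_smul, hr, map_zero, ← hn]
    congr 1
    rw [← hw₀]
    simp only [LinearMap.baseChange_eq_ltensor]
    exact (LinearMap.congr_fun (LinearMap.rTensor_comp_lTensor (f := σ.toLinearMap) (g := u i)) w₀).trans
      (LinearMap.congr_fun (LinearMap.lTensor_comp_rTensor (f := σ.toLinearMap) (g := u i)) w₀).symm
  refine ⟨n, ?_⟩
  have h4 := congrArg (σ.toLinearMap.rTensor M) hn
  rwa [rTensor_algHom_pow_smul, hr, hw₀, map_zero] at h4

variable {A : Type u} [CommRing A] [Algebra A B]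

section inj

variable {X Y P : Type u} [AddCommGroup X] [Module A X] [AddCommGroup Y] [Module A Y] [AddCommGroup P] [Module B P]
  [Module A P] [IsScalarTower A B P]

variable (A B X P) in
/-- `(B ⊗ X) ⊗_B P = P ⊗ X`. -/
noncomputable def cancel : (B ⊗[A] X) ⊗[B] P ≃ₗ[B] P ⊗[A] X :=
  TensorProduct.comm B _ P ≪≫ₗ TensorProduct.AlgebraTensorModule.cancelBaseChange A B B P X

theorem cancel_tmul (b : B) (x : X) (q : P) : cancel B A X P ((b ⊗ₜ[A] x) ⊗ₜ[B] q) = (b • q) ⊗ₜ[A] x := by
  simp [cancel]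

/-- Injective maps stay injective against flat modules. -/
theorem injective_rTensor_flat [Module.Flat A P] (g : X →ₗ[A] Y) (hg : Function.Injective g) :
    Function.Injective ((TensorProduct.AlgebraTensorModule.lTensor B B g).rTensor P) := by
  have hsq : ∀ z, cancel B A Y P ((TensorProduct.AlgebraTensorModule.lTensor B B g).rTensor P z) =
      g.lTensor P (cancel B A X P z) := by
    intro z
    induction z using TensorProduct.induction_on with
    | zero => simp
    | tmul c q =>
      induction c using TensorProduct.induction_on with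
      | zero => simp
      | tmul b x => simp [cancel_tmul]
      | add x y hx hy => simp only [add_tmul, map_add, hx, hy]
    | add x y hx hy => simp only [map_add, hx, hy]
  intro z z' hz
  refine (cancel B A X P).injective (Module.Flat.lTensor_preserves_injective_linearMap (M := P) g hg ?_)
  rw [← hsq, ← hsq, hz]

end inj

variable [Module A M] [IsScalarTower A B M] [∀ i, Module A (N i)] [∀ i, IsScalarTower A B (N i)]
  [∀ i, Module.Flat A (N i)]

omit [Module A M] [IsScalarTower A B M] [∀ i, Module A (N i)] [∀ i, IsScalarTower A B (N i)] [∀ i, Module.Flat A (N i)] in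
/-- Finitely many elements of `B ⊗ A'` come from a finitely generated subalgebra. -/
theorem exists_fg_range {A' : Type u} [CommRing A'] [Algebra A A'] (r : B ⊗[A] A') (w : (B ⊗[A] A') ⊗[B] M) :
    ∃ S : Subalgebra A A', S.FG ∧ (∃ r₀, Algebra.TensorProduct.map (AlgHom.id B B) S.val r₀ = r) ∧
      ∃ w₀, (Algebra.TensorProduct.map (AlgHom.id B B) S.val).toLinearMap.rTensor M w₀ = w := by
  have hmono : ∀ {S S' : Subalgebra A A'} (_ : S ≤ S') (z : B ⊗[A] S), ∃ z',
      Algebra.TensorProduct.map (AlgHom.id B B) S'.val z' = Algebra.TensorProduct.map (AlgHom.id B B) S.val z := by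
    intro S S' h z
    refine ⟨Algebra.TensorProduct.map (AlgHom.id B B) (Subalgebra.inclusion h) z, ?_⟩
    induction z using TensorProduct.induction_on with
    | zero => simp only [map_zero]
    | tmul b e => simp
    | add x y hx hy => simp only [map_add, hx, hy]
  have hex : ∀ z : B ⊗[A] A', ∃ S : Subalgebra A A', S.FG ∧ ∀ S', S ≤ S' →
      ∃ z', Algebra.TensorProduct.map (AlgHom.id B B) S'.val z' = z := by
    intro z
    induction z using TensorProduct.induction_on with
    | zero => exact ⟨⊥, Subalgebra.fg_bot, fun _ _ => ⟨0, map_zero _⟩⟩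
    | tmul b x =>
      exact ⟨Algebra.adjoin A {x}, ⟨{x}, by simp⟩, fun S' h => ⟨b ⊗ₜ ⟨x, h (Algebra.subset_adjoin rfl)⟩, by simp⟩⟩
    | add x y hx hy =>
      obtain ⟨S, hS, hx⟩ := hx
      obtain ⟨S', hS', hy⟩ := hy
      refine ⟨S ⊔ S', hS.sup hS', fun T hT => ?_⟩
      obtain ⟨a, ha⟩ := hx T (le_sup_left.trans hT)
      obtain ⟨b, hb⟩ := hy T (le_sup_right.trans hT)
      exact ⟨a + b, by rw [map_add, ha, hb]⟩
  have hexM : ∀ w : (B ⊗[A] A') ⊗[B] M, ∃ S : Subalgebra A A', S.FG ∧ ∀ S', S ≤ S' →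
      ∃ w', (Algebra.TensorProduct.map (AlgHom.id B B) S'.val).toLinearMap.rTensor M w' = w := by
    intro w
    induction w using TensorProduct.induction_on with
    | zero => exact ⟨⊥, Subalgebra.fg_bot, fun _ _ => ⟨0, map_zero _⟩⟩
    | tmul c m =>
      obtain ⟨S, hS, hc⟩ := hex c
      refine ⟨S, hS, fun T hT => ?_⟩
      obtain ⟨c', hc'⟩ := hc T hT
      exact ⟨c' ⊗ₜ m, by rw [LinearMap.rTensor_tmul, AlgHom.toLinearMap_apply, hc']⟩
    | add x y hx hy =>
      obtain ⟨S, hS, hx⟩ := hx
      obtain ⟨S', hS', hy⟩ := hy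
      refine ⟨S ⊔ S', hS.sup hS', fun T hT => ?_⟩
      obtain ⟨a, ha⟩ := hx T (le_sup_left.trans hT)
      obtain ⟨b, hb⟩ := hy T (le_sup_right.trans hT)
      exact ⟨a + b, by rw [map_add, ha, hb]⟩
  obtain ⟨S, hS, hr⟩ := hex r
  obtain ⟨S', hS', hw⟩ := hexM w
  exact ⟨S ⊔ S', hS.sup hS', hr _ le_sup_left, hw _ le_sup_right⟩

omit [Module A M] [IsScalarTower A B M] in
theorem injective_map_val {A' : Type u} [CommRing A'] [Algebra A A'] (S : Subalgebra A A') (i : ι) :
    Function.Injective ((Algebra.TensorProduct.map (AlgHom.id B B) S.val).toLinearMap.rTensor (N i)) := by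
  have he : (Algebra.TensorProduct.map (AlgHom.id B B) S.val).toLinearMap =
      TensorProduct.AlgebraTensorModule.lTensor B B S.val.toLinearMap := by
    ext x; simp
  rw [he]
  exact injective_rTensor_flat S.val.toLinearMap Subtype.val_injective

omit [Module A M] [IsScalarTower A B M] in
/-- Reduction to subalgebras of finite type. -/
theorem sepBC_tensor_of_fg (A' : Type u) [CommRing A'] [Algebra A A']
    (h : ∀ S : Subalgebra A A', S.FG → SepBC u (B ⊗[A] S)) : SepBC u (B ⊗[A] A') := by
  refine sepBC_of_sub u fun r w => ?_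
  obtain ⟨S, hS, ⟨r₀, hr₀⟩, w₀, hw₀⟩ := exists_fg_range r w
  exact ⟨_, inferInstance, inferInstance, Algebra.TensorProduct.map (AlgHom.id B B) S.val, r₀, w₀, hr₀, hw₀,
    injective_map_val S, h S hS⟩

omit [Module A M] [IsScalarTower A B M] [∀ i, Module A (N i)] [∀ i, IsScalarTower A B (N i)] [∀ i, Module.Flat A (N i)] in
/-- Separation over a field passes to its extensions. -/
theorem sepBC_field_ext {k K : Type u} [Field k] [Field K] [Algebra A k] [Algebra A K] [Algebra k K]
    [IsScalarTower A k K] (h : SepBC u (B ⊗[A] k)) : SepBC u (B ⊗[A] K) := by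
  letI : Algebra k (B ⊗[A] k) := Algebra.TensorProduct.rightAlgebra
  have h2 := sepBC_trans u (C := B ⊗[A] k) (C' := (B ⊗[A] k) ⊗[k] K) (sepBC_field _ h)
  letI : Algebra k (B ⊗[A] K) :=
    ((Algebra.TensorProduct.includeRight : K →ₐ[A] B ⊗[A] K).toRingHom.comp (algebraMap k K)).toAlgebra
  let f : B ⊗[A] k →ₐ[k] B ⊗[A] K :=
    { (Algebra.TensorProduct.map (AlgHom.id A B) (IsScalarTower.toAlgHom A k K)).toRingHom with
      commutes' := fun x => rfl }
  let g : K →ₐ[k] B ⊗[A] K :=
    { (Algebra.TensorProduct.includeRight : K →ₐ[A] B ⊗[A] K).toRingHom with commutes' := fun x => rfl }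
  let F0 : (B ⊗[A] k) ⊗[k] K →ₐ[k] B ⊗[A] K := Algebra.TensorProduct.lift f g fun _ _ => Commute.all _ _
  let F : (B ⊗[A] k) ⊗[k] K →ₐ[B] B ⊗[A] K :=
    { F0.toRingHom with commutes' := fun b => by simp [F0, f, Algebra.TensorProduct.algebraMap_apply] }
  let g' : K →ₐ[A] (B ⊗[A] k) ⊗[k] K :=
    { (Algebra.TensorProduct.includeRight : K →ₐ[k] (B ⊗[A] k) ⊗[k] K).toRingHom with
      commutes' := fun a => by
        change (1 : B ⊗[A] k) ⊗ₜ[k] algebraMap A K a = (algebraMap A (B ⊗[A] k) a) ⊗ₜ[k] (1 : K)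
        rw [IsScalarTower.algebraMap_apply A k K, Algebra.algebraMap_eq_smul_one (A := K), ← smul_tmul]
        congr 1
        rw [Algebra.smul_def, mul_one]
        exact Algebra.TensorProduct.tmul_one_eq_one_tmul a |>.symm }
  let G : B ⊗[A] K →ₐ[B] (B ⊗[A] k) ⊗[k] K :=
    Algebra.TensorProduct.lift (Algebra.ofId B _) g' fun _ _ => Commute.all _ _
  have hFG : F.comp G = AlgHom.id B _ := by
    ext t
    simp [F, F0, f, g, G, g']
  have hGF : ∀ z, G (F z) = z := by
    intro z
    induction z using TensorProduct.induction_on with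
    | zero => simp
    | tmul c t =>
      induction c using TensorProduct.induction_on with
      | zero => simp
      | tmul b x =>
        simp only [F, F0, f, g, G, g', AlgHom.coe_mk, AlgHom.toRingHom_eq_coe, RingHom.coe_coe, Algebra.TensorProduct.lift_tmul,
          Algebra.TensorProduct.map_tmul, Algebra.TensorProduct.includeRight_apply, Algebra.TensorProduct.tmul_mul_tmul,
          Algebra.ofId_apply, Algebra.TensorProduct.algebraMap_apply, AlgHom.id_apply, mul_one, one_mul, IsScalarTower.coe_toAlgHom']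
        simp only [Algebra.algebraMap_self, RingHom.id_apply]
        rw [← Algebra.smul_def, ← smul_tmul, Algebra.smul_def]
        congr 1
        exact (Algebra.TensorProduct.tmul_mul_tmul _ _ _ _).trans (by rw [one_mul, mul_one])
      | add x y hx hy => simp only [add_tmul, map_add, hx, hy]
    | add x y hx hy => simp only [map_add, hx, hy]
  exact sepBC_of_algEquiv u (AlgEquiv.ofAlgHom F G hFG (AlgHom.ext hGF)) h2

omit [Module A M] [IsScalarTower A B M] [∀ i, Module A (N i)] [∀ i, IsScalarTower A B (N i)] [∀ i, Module.Flat A (N i)] in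
/-- The fibre form used in the Krull argument follows from `SepBC`. -/
theorem sepAt_tX_of_sepBC {A'' : Type u} [CommRing A''] [Algebra A A''] {K : Type u} [CommRing K] [Algebra A K]
    [Algebra A'' K] [IsScalarTower A A'' K] [Algebra A'' (B ⊗[A] A'')]
    (halg : ∀ a, algebraMap A'' (B ⊗[A] A'') a = 1 ⊗ₜ a) [SMulCommClass B A'' (B ⊗[A] A'')]
    (r : B ⊗[A] A'') (h : SepBC u (B ⊗[A] K)) :
    SepAt (M := ((B ⊗[A] A'') ⊗[B] M) ⊗[A''] K) (N := fun i => ((B ⊗[A] A'') ⊗[B] N i) ⊗[A''] K)
      (tX A'' (fun i => (u i).baseChange (B ⊗[A] A'')) K) r := by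
  let σ : B ⊗[A] A'' →ₐ[B] B ⊗[A] K := Algebra.TensorProduct.map (AlgHom.id B B) (IsScalarTower.toAlgHom A A'' K)
  have hσ : ∀ (a : A'') (c : B ⊗[A] A''), σ (a • c) = (1 ⊗ₜ algebraMap A'' K a) * σ c := fun a c => by
    rw [Algebra.smul_def, map_mul, halg]; simp [σ]
  have hσsmul : ∀ (P : Type u) [AddCommGroup P] [Module B P] (a : A'') (x : (B ⊗[A] A'') ⊗[B] P),
      σ.toLinearMap.rTensor P (a • x) = (1 ⊗ₜ[A] algebraMap A'' K a : B ⊗[A] K) • σ.toLinearMap.rTensor P x := by
    intro P _ _ a x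
    induction x using TensorProduct.induction_on with
    | zero => simp
    | tmul c q => simp [smul_tmul', hσ]
    | add x y hx hy => simp only [smul_add, map_add, hx, hy]
  let Ψ (P : Type u) [AddCommGroup P] [Module B P] :
      ((B ⊗[A] A'') ⊗[B] P) ⊗[A''] K →+ (B ⊗[A] K) ⊗[B] P :=
    TensorProduct.liftAddHom
      (AddMonoidHom.mk' (fun x => AddMonoidHom.mk' (fun t : K => (1 ⊗ₜ[A] t : B ⊗[A] K) • σ.toLinearMap.rTensor P x)
          fun t t' => by rw [tmul_add, add_smul])
        fun x y => AddMonoidHom.ext fun t => by simp [smul_add])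
      fun a x t => by
        simp only [AddMonoidHom.mk'_apply]
        rw [hσsmul, smul_smul, Algebra.TensorProduct.tmul_mul_tmul, one_mul, mul_comm, ← Algebra.smul_def]
  have hΨ : ∀ (P : Type u) [AddCommGroup P] [Module B P] (c : B ⊗[A] A'') (z : ((B ⊗[A] A'') ⊗[B] P) ⊗[A''] K),
      Ψ P (c • z) = σ c • Ψ P z := by
    intro P _ _ c z
    induction z using TensorProduct.induction_on with
    | zero => simp
    | tmul x t =>
      rw [smul_tmul']
      change (1 ⊗ₜ[A] t : B ⊗[A] K) • σ.toLinearMap.rTensor P (c • x) = σ c • ((1 ⊗ₜ[A] t : B ⊗[A] K) • σ.toLinearMap.rTensor P x)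
      rw [rTensor_algHom_smul, smul_comm]
    | add x y hx hy => simp only [smul_add, map_add, hx, hy]
  have hnat : ∀ i z, Ψ (N i) (tX A'' (fun i => (u i).baseChange (B ⊗[A] A'')) K i z) = (u i).baseChange (B ⊗[A] K) (Ψ M z) := by
    intro i z
    induction z using TensorProduct.induction_on with
    | zero => simp
    | tmul x t =>
      change (1 ⊗ₜ[A] t : B ⊗[A] K) • σ.toLinearMap.rTensor (N i) ((u i).baseChange _ x) = (u i).baseChange _ ((1 ⊗ₜ[A] t : B ⊗[A] K) • σ.toLinearMap.rTensor M x)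
      rw [map_smul]
      congr 1
      simp only [LinearMap.baseChange_eq_ltensor]
      exact (LinearMap.congr_fun (LinearMap.rTensor_comp_lTensor (f := σ.toLinearMap) (g := u i)) x).trans
        (LinearMap.congr_fun (LinearMap.lTensor_comp_rTensor (f := σ.toLinearMap) (g := u i)) x).symm
    | add x y hx hy => simp only [map_add, hx, hy]
  let g₀ (b : B) (t : K) : M →+ (((B ⊗[A] A'') ⊗[B] M) ⊗[A''] K) := AddMonoidHom.mk' (fun m => ((b ⊗ₜ[A] (1 : A'')) ⊗ₜ[B] m) ⊗ₜ[A''] t)
    fun m m' => by rw [tmul_add, add_tmul]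
  let g : B ⊗[A] K →+ (M →+ (((B ⊗[A] A'') ⊗[B] M) ⊗[A''] K)) := TensorProduct.liftAddHom
    { toFun := fun b =>
        { toFun := g₀ b
          map_zero' := AddMonoidHom.ext fun m => by simp only [g₀, AddMonoidHom.mk'_apply, tmul_zero, AddMonoidHom.zero_apply]
          map_add' := fun t t' => AddMonoidHom.ext fun m => by simp only [g₀, AddMonoidHom.mk'_apply, tmul_add, AddMonoidHom.add_apply] }
      map_zero' := AddMonoidHom.ext fun t => AddMonoidHom.ext fun m => by
        change (((0 : B) ⊗ₜ[A] (1 : A'')) ⊗ₜ[B] m) ⊗ₜ[A''] t = 0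
        rw [zero_tmul, zero_tmul, zero_tmul]
      map_add' := fun b b' => AddMonoidHom.ext fun t => AddMonoidHom.ext fun m => by
        change ((((b + b') : B) ⊗ₜ[A] (1 : A'')) ⊗ₜ[B] m) ⊗ₜ[A''] t = _
        rw [add_tmul, add_tmul, add_tmul]
        rfl }
    fun a b t => AddMonoidHom.ext fun m => by
      change (((a • b) ⊗ₜ[A] (1 : A'')) ⊗ₜ[B] m) ⊗ₜ[A''] t = ((b ⊗ₜ[A] (1 : A'')) ⊗ₜ[B] m) ⊗ₜ[A''] (a • t)
      rw [← smul_tmul' a b, ← algebraMap_smul A'' a t, ← smul_tmul, smul_tmul']
      congr 2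
      change (a • b) ⊗ₜ[A] (1 : A'') = algebraMap A A'' a • (b ⊗ₜ[A] (1 : A''))
      rw [Algebra.smul_def (algebraMap A A'' a), halg, Algebra.TensorProduct.tmul_mul_tmul, one_mul, mul_one, smul_tmul, Algebra.smul_def, mul_one]
  let Φ : (B ⊗[A] K) ⊗[B] M →+ (((B ⊗[A] A'') ⊗[B] M) ⊗[A''] K) := TensorProduct.liftAddHom g fun b c m => by
    induction c using TensorProduct.induction_on with
    | zero => simp
    | tmul b' t =>
      rw [smul_tmul']
      change ((((b • b') ⊗ₜ[A] (1 : A'')) ⊗ₜ[B] m) ⊗ₜ[A''] t : (((B ⊗[A] A'') ⊗[B] M) ⊗[A''] K)) = ((b' ⊗ₜ[A] (1 : A'')) ⊗ₜ[B] (b • m)) ⊗ₜ[A''] t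
      rw [← smul_tmul b, ← smul_tmul']
    | add x y hx hy => simp only [smul_add, map_add, AddMonoidHom.add_apply, hx, hy]
  have hΦΨ : ∀ z, Φ (Ψ M z) = z := by
    intro z
    induction z using TensorProduct.induction_on with
    | zero => simp
    | tmul x t =>
      induction x using TensorProduct.induction_on with
      | zero => simp
      | tmul c m =>
        induction c using TensorProduct.induction_on with
        | zero => simp
        | tmul b a =>
          change Φ ((1 ⊗ₜ[A] t : B ⊗[A] K) • (σ (b ⊗ₜ a) ⊗ₜ[B] m)) = _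
          rw [smul_tmul', show (1 ⊗ₜ[A] t : B ⊗[A] K) • σ (b ⊗ₜ a) = b ⊗ₜ (t * algebraMap A'' K a) by simp [σ]]
          change ((b ⊗ₜ[A] (1 : A'')) ⊗ₜ[B] m) ⊗ₜ[A''] (t * algebraMap A'' K a) = _
          rw [mul_comm, ← Algebra.smul_def, ← smul_tmul, smul_tmul']
          congr 2
          rw [Algebra.smul_def, halg, Algebra.TensorProduct.tmul_mul_tmul, one_mul, mul_one]
        | add x y hx hy => simp only [add_tmul, map_add, hx, hy]
      | add x y hx hy => simp only [add_tmul, map_add, hx, hy]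
    | add x y hx hy => simp only [map_add, hx, hy]
  intro z hz
  obtain ⟨n, hn⟩ := h (σ r) (Ψ M z) fun i => by
    obtain ⟨n, hn⟩ := hz i
    exact ⟨n, by rw [← map_pow, ← hnat, ← hΨ, hn, map_zero]⟩
  refine ⟨n, ?_⟩
  rw [← hΦΨ (r ^ n • z), hΨ, map_pow, hn, map_zero]

omit [Module A M] [IsScalarTower A B M] in
/-- **Separation on the fibres implies separation after every base change.** -/
theorem sepBC_of_fibres [IsNoetherianRing B] [Module.Finite B M]
    (h : ∀ (p : Ideal A) [p.IsPrime], SepBC u (B ⊗[A] p.ResidueField))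
    (A' : Type u) [CommRing A'] [Algebra A A'] : SepBC u (B ⊗[A] A') := by
  refine sepBC_tensor_of_fg u A' fun S hS => ?_
  haveI : Algebra.FiniteType A S := ⟨(Subalgebra.fg_top S).2 hS⟩
  haveI : IsNoetherianRing (B ⊗[A] S) := Algebra.FiniteType.isNoetherianRing B _
  letI : Algebra S (B ⊗[A] S) := Algebra.TensorProduct.rightAlgebra
  have hflat : ∀ i, Module.Flat S ((B ⊗[A] S) ⊗[B] N i) := by
    intro i
    let e : (B ⊗[A] S) ⊗[B] N i ≃+ S ⊗[A] N i :=
      (cancel B A S (N i)).toAddEquiv.trans (TensorProduct.comm A (N i) S).toAddEquiv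
    refine Module.Flat.of_linearEquiv (R := S) (M := S ⊗[A] N i) (e.toLinearEquiv fun a z => ?_)
    induction z using TensorProduct.induction_on with
    | zero => simp
    | tmul c q =>
      induction c using TensorProduct.induction_on with
      | zero => simp
      | tmul b t =>
        rw [smul_tmul', Algebra.smul_def, Algebra.TensorProduct.right_algebraMap_apply, Algebra.TensorProduct.tmul_mul_tmul, one_mul]
        simp [e, cancel_tmul, smul_tmul']
      | add x y hx hy => simp only [add_tmul, smul_add, map_add, hx, hy]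
    | add x y hx hy => simp only [smul_add, map_add, hx, hy]
  intro r
  refine sepAt_of_fibres (A := S) _ fun P _ => ?_
  refine sepAt_tX_of_sepBC u (fun a => rfl) r ?_
  let p := P.comap (algebraMap A S)
  letI : Algebra p.ResidueField P.ResidueField := (Ideal.ResidueField.map p P (algebraMap A S) rfl).toAlgebra
  haveI : IsScalarTower A p.ResidueField P.ResidueField := IsScalarTower.of_algebraMap_eq fun a => by
    rw [RingHom.algebraMap_toAlgebra, Ideal.ResidueField.map_algebraMap]
    exact IsScalarTower.algebraMap_apply A S P.ResidueField a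
  exact sepBC_field_ext u (h p)

end Groth.Agent.SepFam
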