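import Groth.Agent.SepFam.Poly

/-!
# Separation after an arbitrary field extension
-/

set_option autoImplicit false
set_option linter.style.haveILetI false
set_option backward.isDefEq.respectTransparency false

universe u

open TensorProduct

namespace Groth.Agent.SepFam

variable {B : Type u} [CommRing B] {M : Type u} [AddCommGroup M] [Module B M] {ι : Type u}
  {N : ι → Type u} [∀ i, AddCommGroup (N i)] [∀ i, Module B (N i)] (u : ∀ i, M →ₗ[B] N i)
variable {k : Type u} [Field k] [Algebra k B]

/-- Base change of an injective linear map of vector spaces stays injective on all modules. -/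
theorem injective_rTensor_map {V W : Type u} [AddCommGroup V] [Module k V] [AddCommGroup W] [Module k W]
    (j : V →ₗ[k] W) (hj : Function.Injective j) (X : Type u) [AddCommGroup X] [Module B X] :
    Function.Injective ((TensorProduct.AlgebraTensorModule.lTensor B B j).rTensor X) := by
  obtain ⟨ρ, hρ⟩ := LinearMap.exists_leftInverse_of_injective j (LinearMap.ker_eq_bot.2 hj)
  intro z z' h
  have h5 := congrArg ((TensorProduct.AlgebraTensorModule.lTensor B B ρ).rTensor X) h
  rwa [← LinearMap.comp_apply, ← LinearMap.comp_apply, ← LinearMap.rTensor_comp,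
    ← TensorProduct.AlgebraTensorModule.lTensor_comp, hρ, TensorProduct.AlgebraTensorModule.lTensor_id,
    LinearMap.rTensor_id] at h5

/-- Base change to the base field does nothing. -/
theorem sepBC_self (h : Sep u) : SepBC u (B ⊗[k] k) := by
  refine sepBC_of_algEquiv u (Algebra.TensorProduct.rid k B B).symm fun r => ?_
  refine sepAt_of_equiv u (r := r) (TensorProduct.lid B M).symm.toAddEquiv (fun i => (TensorProduct.lid B (N i)).symm.toAddEquiv)
    (fun m => (TensorProduct.lid B M).symm.map_smul r m) (fun i m => (TensorProduct.lid B (N i)).symm.map_smul r m)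
    (fun i m => by simp) (h r)

variable {K : Type u} [Field K] [Algebra k K]

/-- Separation after base change to a finitely generated subextension. -/
theorem sepBC_adjoin (h : Sep u) (T : Finset K) : SepBC u (B ⊗[k] ↥(IntermediateField.adjoin k (T : Set K))) := by
  classical
  induction T using Finset.induction with
  | empty =>
    have e : IntermediateField.adjoin k ((∅ : Finset K) : Set K) = ⊥ := by simp
    exact sepBC_of_algEquiv u (Algebra.TensorProduct.congr (AlgEquiv.refl : B ≃ₐ[B] B)
      ((IntermediateField.botEquiv k K).symm.trans (IntermediateField.equivOfEq e.symm))) (sepBC_self u h)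
  | insert a T _ ih =>
    let E := IntermediateField.adjoin k (T : Set K)
    let E' := IntermediateField.adjoin k ((insert a T : Finset K) : Set K)
    have hle : E ≤ E' := IntermediateField.adjoin.mono _ _ _ (by simp)
    letI : Algebra E E' := (IntermediateField.inclusion hle).toRingHom.toAlgebra
    haveI : IsScalarTower k E E' := IsScalarTower.of_algebraMap_eq fun _ => rfl
    have ha : a ∈ E' := IntermediateField.subset_adjoin _ _ (by simp)
    refine sepBC_adjoin_simple (E := E) u (⟨a, ha⟩ : E') (fun x => ?_) ih
    have hx : (x : K) ∈ IntermediateField.adjoin E {a} := by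
      have h1 : E' = (IntermediateField.adjoin E {a}).restrictScalars k := by
        rw [IntermediateField.adjoin_adjoin_left, Set.union_singleton]
        simp [E']
      exact h1.le x.2
    obtain ⟨p, s, hps⟩ := (IntermediateField.mem_adjoin_simple_iff E (x : K)).1 hx
    have hval : ∀ q : Polynomial E, ((Polynomial.aeval (⟨a, ha⟩ : E') q : E') : K) = Polynomial.aeval a q := fun q => by
      induction q using Polynomial.induction_on' with
      | add p q hp hq => simp only [map_add, IntermediateField.coe_add, hp, hq]
      | monomial n c => simp only [Polynomial.aeval_monomial]; rfl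
    by_cases hs : Polynomial.aeval a s = 0
    · refine ⟨0, 1, by simp, ?_⟩
      have : x = 0 := Subtype.ext (by rw [hps, hs, div_zero]; rfl)
      simp [this]
    · refine ⟨p, s, fun h0 => hs (by rw [← hval, h0]; rfl), Subtype.ext ?_⟩
      rw [IntermediateField.coe_mul, hval, hval, hps, mul_div_cancel₀ _ hs]

omit [Field k] [Algebra k B] in
/-- Base change along an algebra map is semilinear. -/
theorem rTensor_algHom_smul {C C' : Type u} [Semiring C] [Algebra B C] [Semiring C'] [Algebra B C']
    (σ : C →ₐ[B] C') (X : Type u) [AddCommGroup X] [Module B X] (c : C) (z : C ⊗[B] X) :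
    σ.toLinearMap.rTensor X (c • z) = σ c • σ.toLinearMap.rTensor X z := by
  induction z using TensorProduct.induction_on with
  | zero => simp
  | tmul q x => simp [smul_tmul']
  | add x y hx hy => simp only [smul_add, map_add, hx, hy]

omit [Field k] [Algebra k B] in
/-- Transport of torsion along an algebra map. -/
theorem rTensor_algHom_pow_smul {C C' : Type u} [Semiring C] [Algebra B C] [Semiring C'] [Algebra B C']
    (σ : C →ₐ[B] C') (X : Type u) [AddCommGroup X] [Module B X] (c : C) (n : ℕ) (z : C ⊗[B] X) :
    σ.toLinearMap.rTensor X (c ^ n • z) = σ c ^ n • σ.toLinearMap.rTensor X z := by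
  rw [rTensor_algHom_smul, map_pow]

variable (k) in
/-- The subextension generated by a finite set. -/
abbrev fgSub (T : Finset K) : IntermediateField k K := IntermediateField.adjoin k (T : Set K)

/-- **Extension of the base field preserves separation.** -/
theorem sepBC_field (h : Sep u) : SepBC u (B ⊗[k] K) := by
  classical
  intro r w hw
  let j (T : Finset K) : B ⊗[k] ↥(fgSub k T) →ₐ[B] B ⊗[k] K := Algebra.TensorProduct.map (AlgHom.id B B) (fgSub k T).val
  have hmono : ∀ {T T' : Finset K}, T ⊆ T' → ∀ z : B ⊗[k] ↥(fgSub k T), ∃ z', j T' z' = j T z := by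
    intro T T' hT z
    refine ⟨Algebra.TensorProduct.map (AlgHom.id B B)
      (IntermediateField.inclusion (IntermediateField.adjoin.mono _ _ _ (by exact_mod_cast hT))) z, ?_⟩
    induction z using TensorProduct.induction_on with
    | zero => simp
    | tmul b e => rfl
    | add x y hx hy => simp only [map_add, hx, hy]
  have hex : ∀ z : B ⊗[k] K, ∃ (T : Finset K) (z' : B ⊗[k] ↥(fgSub k T)), j T z' = z := by
    intro z
    induction z using TensorProduct.induction_on with
    | zero => exact ⟨∅, 0, map_zero _⟩
    | tmul b x => exact ⟨{x}, b ⊗ₜ ⟨x, IntermediateField.subset_adjoin _ _ (by simp)⟩, rfl⟩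
    | add x y hx hy =>
      obtain ⟨T, x', rfl⟩ := hx
      obtain ⟨T', y', rfl⟩ := hy
      obtain ⟨a, ha⟩ := hmono (Finset.subset_union_left (s₂ := T')) x'
      obtain ⟨b, hb⟩ := hmono (Finset.subset_union_right (s₁ := T)) y'
      exact ⟨T ∪ T', a + b, by rw [map_add, ha, hb]⟩
  obtain ⟨T₁, r₁, hr₁⟩ := hex r
  obtain ⟨T, r₀, w₀, hr₀, hw₀⟩ : ∃ (T : Finset K) (r₀ : B ⊗[k] ↥(fgSub k T)) (w₀ : (B ⊗[k] ↥(fgSub k T)) ⊗[B] M),
      j T r₀ = r ∧ (j T).toLinearMap.rTensor M w₀ = w := by
    suffices H : ∀ w : (B ⊗[k] K) ⊗[B] M, ∃ (T : Finset K), T₁ ⊆ T ∧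
        ∃ w₀ : (B ⊗[k] ↥(fgSub k T)) ⊗[B] M, (j T).toLinearMap.rTensor M w₀ = w by
      obtain ⟨T, hT, w₀, hw₀⟩ := H w
      obtain ⟨r₀, hr₀⟩ := hmono hT r₁
      exact ⟨T, r₀, w₀, hr₀.trans hr₁, hw₀⟩
    have hmonoM : ∀ {T T' : Finset K}, T ⊆ T' → ∀ z : (B ⊗[k] ↥(fgSub k T)) ⊗[B] M,
        ∃ z', (j T').toLinearMap.rTensor M z' = (j T).toLinearMap.rTensor M z := by
      intro T T' hT z
      induction z using TensorProduct.induction_on with
      | zero => exact ⟨0, by simp⟩
      | tmul c m =>
        obtain ⟨c', hc'⟩ := hmono hT c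
        exact ⟨c' ⊗ₜ m, by simp [hc']⟩
      | add x y hx hy =>
        obtain ⟨x', hx⟩ := hx
        obtain ⟨y', hy⟩ := hy
        exact ⟨x' + y', by rw [map_add, map_add, hx, hy]⟩
    intro w
    induction w using TensorProduct.induction_on with
    | zero => exact ⟨T₁, subset_rfl, 0, map_zero _⟩
    | tmul c m =>
      obtain ⟨T, c', rfl⟩ := hex c
      obtain ⟨a, ha⟩ := hmono (Finset.subset_union_right (s₁ := T₁)) c'
      exact ⟨T₁ ∪ T, Finset.subset_union_left, a ⊗ₜ m, by simp [ha]⟩
    | add x y hx hy =>
      obtain ⟨T, hT, x', rfl⟩ := hx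
      obtain ⟨T', hT', y', rfl⟩ := hy
      obtain ⟨a, ha⟩ := hmonoM (Finset.subset_union_left (s₂ := T')) x'
      obtain ⟨b, hb⟩ := hmonoM (Finset.subset_union_right (s₁ := T)) y'
      exact ⟨T ∪ T', hT.trans Finset.subset_union_left, a + b, by rw [map_add, ha, hb]⟩
  obtain ⟨n, hn⟩ := sepBC_adjoin u h T r₀ w₀ fun i => by
    obtain ⟨n, hn⟩ := hw i
    have hjinj : Function.Injective ((j T).toLinearMap.rTensor (N i)) :=
      injective_rTensor_map (fgSub k T).val.toLinearMap (fgSub k T).val.injective (N i)
    refine ⟨n, hjinj ?_⟩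
    rw [rTensor_algHom_pow_smul, hr₀, map_zero, ← hn]
    congr 1
    rw [← hw₀]
    clear hw₀
    induction w₀ using TensorProduct.induction_on with
    | zero => simp
    | tmul c m => simp
    | add x y hx hy => simp only [map_add, hx, hy]
  refine ⟨n, ?_⟩
  have h4 := congrArg ((j T).toLinearMap.rTensor M) hn
  rwa [rTensor_algHom_pow_smul, hr₀, hw₀, map_zero] at h4

/-- Separation descends along a field extension. -/
theorem sep_of_sepBC_field (h : SepBC u (B ⊗[k] K)) : Sep u := by
  intro r m hm
  let j : B →ₗ[B] B ⊗[k] K := (Algebra.linearMap B (B ⊗[k] K))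
  obtain ⟨n, hn⟩ := h (algebraMap B _ r) (1 ⊗ₜ m) fun i => by
    obtain ⟨n, hn⟩ := hm i
    exact ⟨n, by rw [← map_pow, algebraMap_smul, LinearMap.baseChange_tmul, ← tmul_smul, hn, tmul_zero]⟩
  refine ⟨n, ?_⟩
  rw [← map_pow, algebraMap_smul, ← tmul_smul] at hn
  have hinj : Function.Injective (j.rTensor M) := by
    have := injective_rTensor_map (B := B) (Algebra.linearMap k K) (algebraMap k K).injective M
    intro a b hab
    have he : j = (TensorProduct.AlgebraTensorModule.lTensor B B (Algebra.linearMap k K)).comp
        (TensorProduct.AlgebraTensorModule.rid k B B).symm.toLinearMap := LinearMap.ext_ring (by simp [j])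
    rw [he, LinearMap.rTensor_comp] at hab
    exact (LinearEquiv.rTensor M (TensorProduct.AlgebraTensorModule.rid k B B).symm).injective (this hab)
  have h0 : (1 : B) ⊗ₜ[B] (r ^ n • m) = 0 := hinj (by simpa [j, Algebra.TensorProduct.one_def] using hn)
  simpa using congrArg (TensorProduct.lid B M) h0

end Groth.Agent.SepFam
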