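import Groth.Agent.SepFam.Field

/-!
# From the fibres to the total space (Krull intersection argument)
-/

set_option autoImplicit false
set_option linter.style.haveILetI false
set_option backward.isDefEq.respectTransparency false

universe u

open TensorProduct

namespace Groth.Agent.SepFam

variable {A : Type u} [CommRing A] {B : Type u} [CommRing B] [Algebra A B]
  {M : Type u} [AddCommGroup M] [Module B M] [Module A M] [IsScalarTower A B M] {ι : Type u}
  {N : ι → Type u} [∀ i, AddCommGroup (N i)] [∀ i, Module B (N i)] [∀ i, Module A (N i)]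
  [∀ i, IsScalarTower A B (N i)] (u : ∀ i, M →ₗ[B] N i)

variable (A) in
/-- The maps tensored with an `A`-module `X`. -/
noncomputable abbrev tX (X : Type u) [AddCommGroup X] [Module A X] (i : ι) : M ⊗[A] X →ₗ[B] N i ⊗[A] X :=
  TensorProduct.AlgebraTensorModule.map (u i) (LinearMap.id : X →ₗ[A] X)

theorem tX_natural {X Y : Type u} [AddCommGroup X] [Module A X] [AddCommGroup Y] [Module A Y] (g : X →ₗ[A] Y)
    (i : ι) (z : M ⊗[A] X) : g.lTensor (N i) (tX A u X i z) = tX A u Y i (g.lTensor M z) := by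
  induction z using TensorProduct.induction_on with
  | zero => simp
  | tmul m x => simp
  | add x y hx hy => simp only [map_add, hx, hy]

omit [∀ i, IsScalarTower A B (N i)] in
theorem lTensor_smul_comm {P X Y : Type u} [AddCommGroup P] [Module B P] [Module A P] [IsScalarTower A B P]
    [AddCommGroup X] [Module A X] [AddCommGroup Y] [Module A Y] (g : X →ₗ[A] Y) (b : B) (z : P ⊗[A] X) :
    g.lTensor P (b • z) = b • g.lTensor P z :=
  (TensorProduct.AlgebraTensorModule.lTensor B P g).map_smul b z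

/-- Separation passes to direct sums in the second variable. -/
theorem sepAt_finsupp {X Y : Type u} [AddCommGroup X] [Module A X] [AddCommGroup Y] [Module A Y] {σ : Type u}
    (e : Y ≃ₗ[A] (σ →₀ X)) {r : B} (h : SepAt (tX A u X) r) : SepAt (tX A u Y) r := by
  classical
  intro w hw
  let c (a : σ) : Y →ₗ[A] X := (Finsupp.lapply a).comp e.toLinearMap
  have hc : ∀ a, ∃ n : ℕ, r ^ n • (c a).lTensor M w = 0 := fun a => h _ fun i => by
    obtain ⟨n, hn⟩ := hw i
    refine ⟨n, ?_⟩
    rw [← tX_natural, ← lTensor_smul_comm, hn, map_zero]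
  choose n hn using hc
  let F := TensorProduct.finsuppRight A B M X σ
  let w' : M ⊗[A] (σ →₀ X) := e.toLinearMap.lTensor M w
  have hFw : ∀ a, F w' a = (c a).lTensor M w := fun a => by
    rw [TensorProduct.finsuppRight_apply, ← LinearMap.lTensor_comp_apply]
  refine ⟨(F w').support.sup n, (LinearEquiv.lTensor M e).injective ?_⟩
  rw [map_zero, ← LinearEquiv.coe_toLinearMap, LinearEquiv.coe_lTensor, lTensor_smul_comm]
  refine F.injective ?_
  rw [map_smul, map_zero]
  ext a
  rw [Finsupp.smul_apply, Finsupp.zero_apply]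
  by_cases ha : a ∈ (F w').support
  · obtain ⟨k, hk⟩ := Nat.exists_eq_add_of_le (Finset.le_sup (f := n) ha)
    rw [hk, add_comm, pow_add, mul_smul, hFw, hn, smul_zero]
  · rw [Finsupp.notMem_support_iff.1 ha, smul_zero]

/-- One step of the induction along `m ^ n ⊇ m ^ (n + 1)`. -/
theorem exists_step {X₀ X₁ X₂ Y : Type u} [AddCommGroup X₀] [Module A X₀] [AddCommGroup X₁] [Module A X₁]
    [AddCommGroup X₂] [Module A X₂] [AddCommGroup Y] [Module A Y] (j₁ : X₁ →ₗ[A] X₀) (hj₁ : Function.Injective j₁)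
    (k : X₂ →ₗ[A] X₁) (q : X₁ →ₗ[A] Y) (hq : Function.Surjective q) (hkq : Function.Exact k q)
    [∀ i, Module.Flat A (N i)] {r : B} (hY : SepAt (tX A u Y) r) {x : M ⊗[A] X₀}
    (hx : ∀ i, ∃ n : ℕ, r ^ n • tX A u X₀ i x = 0) (h : ∃ n : ℕ, r ^ n • x ∈ Set.range (j₁.lTensor M)) :
    ∃ n : ℕ, r ^ n • x ∈ Set.range ((j₁ ∘ₗ k).lTensor M) := by
  obtain ⟨n, z, hz⟩ := h
  obtain ⟨n', hn'⟩ := hY (q.lTensor M z) fun i => by
    obtain ⟨l, hl⟩ := hx i
    refine ⟨l, ?_⟩
    have h0 : r ^ l • tX A u X₁ i z = 0 := by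
      refine Module.Flat.lTensor_preserves_injective_linearMap (M := N i) j₁ hj₁ ?_
      rw [lTensor_smul_comm, tX_natural, hz, map_smul, smul_smul, mul_comm, ← smul_smul, hl, smul_zero, map_zero]
    rw [← tX_natural, ← lTensor_smul_comm, h0, map_zero]
  obtain ⟨z', hz'⟩ := (lTensor_exact M hkq hq (r ^ n' • z)).1 (by rw [lTensor_smul_comm, hn'])
  exact ⟨n' + n, z', by rw [LinearMap.lTensor_comp_apply, hz', lTensor_smul_comm, hz, smul_smul, pow_add]⟩

/-- The graded pieces of a local ring are vector spaces over the residue field. -/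
theorem exists_gr_equiv (p : Ideal A) [p.IsPrime] (n : ℕ) :
    ∃ (σ Y : Type u) (_ : AddCommGroup Y) (_ : Module A Y) (_ : Y ≃ₗ[A] (σ →₀ p.ResidueField))
      (q : ↥(IsLocalRing.maximalIdeal (Localization.AtPrime p) ^ n) →ₗ[A] Y),
      Function.Surjective q ∧ Function.Exact
        ((Submodule.inclusion (Ideal.pow_le_pow_right n.le_succ :
          IsLocalRing.maximalIdeal (Localization.AtPrime p) ^ (n + 1) ≤ IsLocalRing.maximalIdeal (Localization.AtPrime p) ^ n)).restrictScalars A) q := by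
  let R := Localization.AtPrime p
  let 𝔪 := IsLocalRing.maximalIdeal R
  let P : Submodule R ↥(𝔪 ^ n) := 𝔪 • ⊤
  letI : Module p.ResidueField (↥(𝔪 ^ n) ⧸ P) :=
    (Module.isTorsionBySet_quotient_ideal_smul ↥(𝔪 ^ n) 𝔪).module
  let b := Module.Free.chooseBasis p.ResidueField (↥(𝔪 ^ n) ⧸ P)
  haveI : IsScalarTower A p.ResidueField (↥(𝔪 ^ n) ⧸ P) := by
    refine IsScalarTower.of_algebraMap_smul fun a y => ?_
    obtain ⟨x, rfl⟩ := Submodule.Quotient.mk_surjective _ y
    rw [show algebraMap A p.ResidueField a = IsLocalRing.residue R (algebraMap A R a) from IsScalarTower.algebraMap_apply A R _ a]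
    exact algebraMap_smul R a (Submodule.Quotient.mk (p := P) x)
  refine ⟨_, ↥(𝔪 ^ n) ⧸ P, inferInstance, inferInstance, b.repr.restrictScalars A, P.mkQ.restrictScalars A,
    Submodule.mkQ_surjective P, fun x => ?_⟩
  change P.mkQ x = 0 ↔ _
  rw [← LinearMap.mem_ker, Submodule.ker_mkQ]
  have hP : ∀ x : ↥(𝔪 ^ n), x ∈ P ↔ (x : R) ∈ 𝔪 ^ (n + 1) := fun x => by
    rw [Submodule.mem_smul_top_iff, pow_succ', smul_eq_mul]
  rw [hP]
  exact ⟨fun h => ⟨⟨x, h⟩, rfl⟩, fun ⟨y, hy⟩ => by rw [← hy]; exact y.2⟩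

/-- **Separation on the fibres implies separation.** -/
theorem sepAt_of_fibres [IsNoetherianRing B] [Module.Finite B M] [∀ i, Module.Flat A (N i)] {r : B}
    (h : ∀ (p : Ideal A) [p.IsPrime], SepAt (tX A u p.ResidueField) r) : SepAt u r := by
  intro m hm
  by_contra! hne
  have hrad : r ∉ Ideal.radical (LinearMap.ker (LinearMap.toSpanSingleton B M m)) := fun ⟨n, hn⟩ => hne n hn
  rw [Ideal.radical_eq_sInf, Submodule.mem_sInf] at hrad
  push Not at hrad
  obtain ⟨Q, ⟨hQ, hQprime⟩, hrQ⟩ : ∃ Q : Ideal B, (LinearMap.ker (LinearMap.toSpanSingleton B M m) ≤ Q ∧ Q.IsPrime) ∧ r ∉ Q := hrad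
  let p : Ideal A := Ideal.comap (algebraMap A B) Q
  haveI : p.IsPrime := Ideal.IsPrime.comap _
  let R := Localization.AtPrime p
  let Bq := Localization.AtPrime Q
  let L := LocalizedModule Q.primeCompl M
  let φ : R →ₐ[A] Bq := IsLocalization.liftAlgHom (M := p.primeCompl) (f := Algebra.ofId A Bq) fun a => by
    rw [Algebra.ofId_apply, IsScalarTower.algebraMap_apply A B Bq]
    exact IsLocalization.map_units Bq (⟨algebraMap A B a, a.2⟩ : Q.primeCompl)
  let J : Ideal Bq := p.map (algebraMap A Bq)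
  let 𝔪 := IsLocalRing.maximalIdeal R
  have hJ : ∀ n, ∀ t ∈ 𝔪 ^ n, φ t ∈ J ^ n := by
    intro n t ht
    have h1 : (𝔪 ^ n).map φ.toRingHom = J ^ n := by
      rw [Ideal.map_pow, show 𝔪 = p.map (algebraMap A R) from Localization.AtPrime.map_eq_maximalIdeal.symm, Ideal.map_map]
      congr 2
      exact RingHom.ext fun a => φ.commutes a
    exact h1 ▸ Ideal.mem_map_of_mem _ ht
  let mk := LocalizedModule.mkLinearMap Q.primeCompl M
  let bil : M →ₗ[B] R →ₗ[A] L :=
    { toFun := fun x => ((LinearMap.toSpanSingleton Bq L (mk x)).restrictScalars A).comp φ.toLinearMap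
      map_add' := fun x y => LinearMap.ext fun t => by simp
      map_smul' := fun b x => LinearMap.ext fun t => by
        simp only [LinearMap.coe_comp, LinearMap.coe_restrictScalars, Function.comp_apply, map_smul,
          LinearMap.toSpanSingleton_apply, LinearMap.smul_apply, RingHom.id_apply]
        exact smul_comm _ _ _ }
  let μ : M ⊗[A] R →ₗ[B] L := TensorProduct.AlgebraTensorModule.lift bil
  let jn (n : ℕ) : ↥(𝔪 ^ n) →ₗ[A] R := ((𝔪 ^ n).subtype).restrictScalars A
  let x : M ⊗[A] R := m ⊗ₜ 1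
  have hx : ∀ i, ∃ n : ℕ, r ^ n • tX A u R i x = 0 := fun i => by
    obtain ⟨n, hn⟩ := hm i
    exact ⟨n, by simp [x, smul_tmul', hn]⟩
  have H : ∀ n, ∃ l : ℕ, r ^ l • x ∈ Set.range ((jn n).lTensor M) := by
    intro n
    induction n with
    | zero => exact ⟨0, m ⊗ₜ ⟨1, by simp⟩, by simp [x, jn]⟩
    | succ n ih =>
      obtain ⟨σ, Y, _, _, e, q, hqs, hex⟩ := exists_gr_equiv p n
      exact exists_step u (jn n) Subtype.val_injective _ q hqs hex (sepAt_finsupp u e (h p)) hx ih
  have hmem : ∀ n : ℕ, mk m ∈ (J ^ n • ⊤ : Submodule Bq L) := by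
    intro n
    obtain ⟨l, z, hz⟩ := H n
    have h1 : ∀ z : M ⊗[A] ↥(𝔪 ^ n), μ ((jn n).lTensor M z) ∈ (J ^ n • ⊤ : Submodule Bq L) := fun z => by
      induction z using TensorProduct.induction_on with
      | zero => simp
      | tmul y t => exact Submodule.smul_mem_smul (hJ n t t.2) Submodule.mem_top
      | add y y' hy hy' => rw [map_add, map_add]; exact add_mem hy hy'
    have h2 := h1 z
    rw [hz, map_smul] at h2
    have hu : IsUnit (algebraMap B Bq (r ^ l)) :=
      IsLocalization.map_units Bq (⟨r ^ l, fun hr => hrQ (hQprime.mem_of_pow_mem l hr)⟩ : Q.primeCompl)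
    have hμx : μ x = mk m := by simp [μ, x, bil]
    rw [hμx, ← algebraMap_smul Bq] at h2
    exact (Submodule.smul_mem_iff_of_isUnit _ hu).1 h2
  haveI : IsNoetherianRing Bq := IsLocalization.isNoetherianRing Q.primeCompl Bq inferInstance
  haveI : Module.Finite Bq L := Module.Finite.of_isLocalizedModule Q.primeCompl mk
  have hJtop : J ≠ ⊤ := by
    refine ne_top_of_le_ne_top (IsLocalRing.maximalIdeal.isMaximal Bq).ne_top (Ideal.map_le_iff_le_comap.2 fun a ha => ?_)
    rw [Ideal.mem_comap, IsScalarTower.algebraMap_apply A B Bq, IsLocalization.AtPrime.to_map_mem_maximal_iff Bq Q]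
    exact ha
  have hzero : mk m = 0 := by
    rw [← Submodule.mem_bot Bq, ← Ideal.iInf_pow_smul_eq_bot_of_isLocalRing J hJtop, Submodule.mem_iInf]
    exact hmem
  obtain ⟨c, hc⟩ := (LocalizedModule.mem_ker_mkLinearMap_iff).1 (show m ∈ LinearMap.ker mk from hzero)
  exact hc.1 (hQ (show c • m = 0 from hc.2))

end Groth.Agent.SepFam
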