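import Groth.Agent.SepFam.Basic

/-!
# Separation is preserved by extension of the base field
-/

set_option autoImplicit false
set_option linter.style.haveILetI false

universe u

open TensorProduct

namespace Groth.Agent.SepFam

variable {B : Type u} [CommRing B] {M : Type u} [AddCommGroup M] [Module B M] {ι : Type u}
  {N : ι → Type u} [∀ i, AddCommGroup (N i)] [∀ i, Module B (N i)] (u : ∀ i, M →ₗ[B] N i)

/-- Gauss–McCoy for modules: powers of the coefficients of an annihilating polynomial kill. -/
theorem exists_pow_coeff_smul_eq_zero (p : Polynomial B) (g : Polynomial B ⊗[B] M) (h : p • g = 0) (l : ℕ) :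
    ∃ n : ℕ, algebraMap B (Polynomial B) (p.coeff l) ^ n • g = 0 := by
  classical
  letI : Module Bᵐᵒᵖ M := Module.compHom M ((RingHom.id B).fromOpposite fun x y => mul_comm x y)
  haveI : IsCentralScalar B M := ⟨fun r m => rfl⟩
  let R := TrivSqZeroExt B M
  let inl : B →+* R := TrivSqZeroExt.inlHom B M
  have hmul : ∀ (c : B) (m : M), inl c * TrivSqZeroExt.inr m = TrivSqZeroExt.inr (c • m) := fun c m =>
    TrivSqZeroExt.inl_mul_inr c m
  have hco : ∀ (q : Polynomial B) (m : M) (n : ℕ),
      (q.map inl * Polynomial.C (TrivSqZeroExt.inr m)).coeff n = TrivSqZeroExt.inr (q.coeff n • m) := fun q m n => by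
    rw [Polynomial.coeff_mul_C, Polynomial.coeff_map, hmul]
  let bil : Polynomial B →ₗ[B] M →ₗ[B] Polynomial R :=
    LinearMap.mk₂ B (fun q m => q.map inl * Polynomial.C (TrivSqZeroExt.inr m))
      (fun q q' m => by simp [add_mul])
      (fun c q m => by
        ext n : 1
        rw [Polynomial.coeff_smul, hco, hco, Polynomial.coeff_smul, smul_eq_mul, mul_smul, TrivSqZeroExt.inr_smul])
      (fun q m m' => by simp [TrivSqZeroExt.inr_add, mul_add])
      (fun c q m => by
        ext n : 1
        rw [Polynomial.coeff_smul, hco, hco, smul_comm, TrivSqZeroExt.inr_smul])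
  let Θ := TensorProduct.lift bil
  have hΘmul : ∀ z, Θ (p • z) = p.map inl * Θ z := by
    intro z
    induction z using TensorProduct.induction_on with
    | zero => simp
    | tmul q m => simp [Θ, bil, smul_tmul', mul_assoc]
    | add x y hx hy => simp only [smul_add, map_add, hx, hy, mul_add]
  let coord := TensorProduct.equivFinsuppOfBasisLeft (Polynomial.basisMonomials B) (N := M)
  have hΘcoeff : ∀ z (k : ℕ), (Θ z).coeff k = TrivSqZeroExt.inr (coord z k) := by
    intro z k
    induction z using TensorProduct.induction_on with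
    | zero => simp
    | tmul q m =>
      simp only [Θ, bil, lift.tmul, LinearMap.mk₂_apply, hco, coord,
        TensorProduct.equivFinsuppOfBasisLeft_apply_tmul_apply]
      congr 2
    | add x y hx hy => simp only [map_add, Polynomial.coeff_add, hx, hy, Finsupp.add_apply, TrivSqZeroExt.inr_add]
  let f := p.coeff l
  let R' := Localization.Away (inl f)
  have hQ : (Θ g).map (algebraMap R R') = 0 := by
    refine Polynomial.eq_zero_of_mul_eq_zero_of_smul ((p.map inl).map (algebraMap R R')) (fun r hr => ?_) _ ?_
    · have h1 := congrArg (fun q => Polynomial.coeff q l) hr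
      simp only [Polynomial.coeff_smul, Polynomial.coeff_map, smul_eq_mul, Polynomial.coeff_zero] at h1
      exact (IsLocalization.Away.algebraMap_isUnit (inl f)).mul_left_eq_zero.1 h1
    · rw [← Polynomial.map_mul, ← hΘmul, h, map_zero, Polynomial.map_zero]
  have hk : ∀ k, ∃ n : ℕ, f ^ n • coord g k = 0 := fun k => by
    have h1 := congrArg (fun q => Polynomial.coeff q k) hQ
    simp only [Polynomial.coeff_map, Polynomial.coeff_zero, hΘcoeff] at h1
    obtain ⟨⟨_, n, rfl⟩, hn⟩ := (IsLocalization.map_eq_zero_iff (Submonoid.powers (inl f)) R' _).1 h1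
    refine ⟨n, TrivSqZeroExt.inr_injective (R := B) ?_⟩
    rw [TrivSqZeroExt.inr_zero, ← hn]
    rw [← hmul, map_pow]
  choose n hn using hk
  refine ⟨(coord g).support.sup n, coord.injective ?_⟩
  rw [← map_pow, algebraMap_smul, map_smul, map_zero]
  ext a
  rw [Finsupp.smul_apply, Finsupp.zero_apply]
  by_cases ha : a ∈ (coord g).support
  · obtain ⟨k, hk⟩ := Nat.exists_eq_add_of_le (Finset.le_sup (f := n) ha)
    rw [hk, add_comm, pow_add, mul_smul, hn, smul_zero]
  · rw [Finsupp.notMem_support_iff.1 ha, smul_zero]

/-- Base change to a generic point of the line preserves separation. -/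
theorem sepBC_of_poly {C : Type u} [CommRing C] [Algebra B C] (φ : Polynomial B →ₐ[B] C)
    (h1 : ∀ (X : Type u) [AddCommGroup X] [Module B X], Function.Injective (φ.toLinearMap.rTensor X))
    (h2 : ∀ c : C, ∃ p s : Polynomial B, IsUnit (φ s) ∧ φ s * c = φ p) (h : Sep u) : SepBC u C := by
  intro r w hw
  have hψ : ∀ (X : Type u) [AddCommGroup X] [Module B X] (p : Polynomial B) (z : Polynomial B ⊗[B] X),
      φ.toLinearMap.rTensor X (p • z) = φ p • φ.toLinearMap.rTensor X z := by
    intro X _ _ p z
    induction z using TensorProduct.induction_on with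
    | zero => simp
    | tmul q x => simp [smul_tmul']
    | add x y hx hy => simp only [smul_add, map_add, hx, hy]
  have hnat : ∀ i z, φ.toLinearMap.rTensor (N i) ((u i).baseChange (Polynomial B) z) =
      (u i).baseChange C (φ.toLinearMap.rTensor M z) := by
    intro i z
    induction z using TensorProduct.induction_on with
    | zero => simp
    | tmul q x => simp
    | add x y hx hy => simp only [map_add, hx, hy]
  obtain ⟨r₀, s, hs, hr⟩ := h2 r
  obtain ⟨w₀, e, he, hw₀⟩ : ∃ (w₀ : Polynomial B ⊗[B] M) (e : Polynomial B),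
      IsUnit (φ e) ∧ φ e • w = φ.toLinearMap.rTensor M w₀ := by
    clear hw
    induction w using TensorProduct.induction_on with
    | zero => exact ⟨0, 1, by simp, by simp⟩
    | tmul c m =>
      obtain ⟨p, e, he, hc⟩ := h2 c
      exact ⟨p ⊗ₜ m, e, he, by simp [smul_tmul', hc]⟩
    | add x y hx hy =>
      obtain ⟨x₀, e, he, hx⟩ := hx
      obtain ⟨y₀, e', he', hy⟩ := hy
      refine ⟨e' • x₀ + e • y₀, e * e', by simpa using he.mul he', ?_⟩
      rw [map_add, hψ, hψ, ← hx, ← hy, smul_add, map_mul, smul_smul, smul_smul, mul_comm (φ e) (φ e')]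
  have hcoef : ∀ l, ∃ n : ℕ, algebraMap B (Polynomial B) (r₀.coeff l) ^ n • w₀ = 0 := fun l => by
    refine sepAt_algebraMap_of_free (C := Polynomial B) u (h (r₀.coeff l)) w₀ fun i => ?_
    obtain ⟨n, hn⟩ := hw i
    have h3 : r₀ ^ n • (u i).baseChange (Polynomial B) w₀ = 0 := by
      apply h1 (N i)
      rw [hψ, hnat, ← hw₀, map_zero, map_pow, ← hr, mul_pow, map_smul, smul_smul,
        show φ s ^ n * r ^ n * φ e = (φ s ^ n * φ e) * r ^ n by ring, mul_smul, hn, smul_zero]
    suffices H : ∀ (n : ℕ) (X : Polynomial B ⊗[B] N i), r₀ ^ n • X = 0 →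
        ∃ m : ℕ, algebraMap B (Polynomial B) (r₀.coeff l) ^ m • X = 0 from H n _ h3
    intro n
    induction n with
    | zero => exact fun X hX => ⟨0, by rw [pow_zero] at hX ⊢; exact hX⟩
    | succ n ih =>
      intro X hX
      obtain ⟨m, hm⟩ := exists_pow_coeff_smul_eq_zero r₀ (r₀ ^ n • X) (by rw [smul_smul, ← pow_succ', hX]) l
      rw [smul_comm] at hm
      obtain ⟨m', hm'⟩ := ih _ hm
      exact ⟨m' + m, by rw [pow_add, mul_smul, hm']⟩
  have hrad : r₀ ∈ (Ideal.span (Set.range fun l => algebraMap B (Polynomial B) (r₀.coeff l))).radical := by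
    refine Ideal.le_radical ?_
    rw [r₀.as_sum_range_C_mul_X_pow]
    exact sum_mem fun l _ => Ideal.mul_mem_right _ _ (Ideal.subset_span ⟨l, by simp [← r₀.as_sum_range_C_mul_X_pow]⟩)
  obtain ⟨n, hn⟩ := exists_pow_smul_eq_zero_of_mem_span (x := w₀)
    (by rintro _ ⟨l, rfl⟩; exact hcoef l) hrad
  refine ⟨n, ?_⟩
  have h4 := congrArg (φ.toLinearMap.rTensor M) hn
  rw [hψ, map_zero, ← hw₀, map_pow, ← hr, mul_pow, smul_smul,
    show φ s ^ n * r ^ n * φ e = (φ s ^ n * φ e) * r ^ n by ring, mul_smul] at h4
  exact ((hs.pow n).mul he).smul_eq_zero.1 h4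

/-- Transitivity of base change for separation. -/
theorem sepBC_trans {C C' : Type u} [CommRing C] [Algebra B C] [CommRing C'] [Algebra B C'] [Algebra C C']
    [IsScalarTower B C C'] (h : SepBC (fun i => (u i).baseChange C) C') : SepBC u C' := by
  intro r
  refine sepAt_of_equiv (fun i => ((u i).baseChange C).baseChange C') (r := r)
    (TensorProduct.AlgebraTensorModule.cancelBaseChange B C C' C' M).toAddEquiv
    (fun i => (TensorProduct.AlgebraTensorModule.cancelBaseChange B C C' C' (N i)).toAddEquiv)
    (fun m => (TensorProduct.AlgebraTensorModule.cancelBaseChange B C C' C' M).map_smul r m)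
    (fun i m => (TensorProduct.AlgebraTensorModule.cancelBaseChange B C C' C' (N i)).map_smul r m) (fun i m => ?_) (h r)
  induction m using TensorProduct.induction_on with
  | zero => simp
  | tmul c' z =>
    induction z using TensorProduct.induction_on with
    | zero => simp
    | tmul c m => simp
    | add x y hx hy =>
      simp only [tmul_add, map_add]
      exact congrArg₂ (· + ·) hx hy
  | add x y hx hy => simp only [map_add, hx, hy]

section Field

variable {k : Type u} [Field k] [Algebra k B]

/-- Adjoining one element. -/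
theorem sepBC_adjoin_simple {E E' : Type u} [Field E] [Algebra k E] [Field E'] [Algebra k E'] [Algebra E E']
    [IsScalarTower k E E'] (a : E')
    (hgen : ∀ x : E', ∃ p s : Polynomial E, Polynomial.aeval a s ≠ 0 ∧ Polynomial.aeval a s * x = Polynomial.aeval a p)
    (h : SepBC u (B ⊗[k] E)) : SepBC u (B ⊗[k] E') := by
  classical
  let ι' : B ⊗[k] E →ₐ[B] B ⊗[k] E' := Algebra.TensorProduct.map (AlgHom.id B B) (IsScalarTower.toAlgHom k E E')
  letI : Algebra (B ⊗[k] E) (B ⊗[k] E') := ι'.toAlgebra
  haveI : IsScalarTower B (B ⊗[k] E) (B ⊗[k] E') := IsScalarTower.of_algebraMap_eq fun b => (ι'.commutes b).symm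
  refine sepBC_trans (C := B ⊗[k] E) u ?_
  have hι : ∀ (b : B) (e : E), algebraMap (B ⊗[k] E) (B ⊗[k] E') (b ⊗ₜ e) = b ⊗ₜ algebraMap E E' e := fun b e => rfl
  let gE : E →+* B ⊗[k] E := (Algebra.TensorProduct.includeRight (R := k) (A := B) (B := E)).toRingHom
  let gE' : E' →+* B ⊗[k] E' := (Algebra.TensorProduct.includeRight (R := k) (A := B) (B := E')).toRingHom
  have hg : (algebraMap (B ⊗[k] E) (B ⊗[k] E')).comp gE = gE'.comp (algebraMap E E') := RingHom.ext fun e => hι 1 e
  have haeval : ∀ q : Polynomial E, Polynomial.aeval (gE' a) (q.map gE) = gE' (Polynomial.aeval a q) := fun q => by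
    rw [Polynomial.aeval_def, Polynomial.eval₂_map, hg, ← Polynomial.hom_eval₂, ← Polynomial.aeval_def]
  by_cases halg : IsAlgebraic E a
  · have hint : ∀ x : E', IsIntegral E x := fun x => by
      obtain ⟨p, s, hs, hx⟩ := hgen x
      have ha : ∀ q : Polynomial E, IsIntegral E (Polynomial.aeval a q) := fun q =>
        (Algebra.adjoin E {a}).isIntegral_iff.1 (Algebra.IsIntegral.adjoin (by simpa using halg.isIntegral))
          _ (Polynomial.aeval_mem_adjoin_singleton E a)
      have hx' : x = Polynomial.aeval a p * (Polynomial.aeval a s)⁻¹ := by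
        field_simp
        linear_combination hx
      exact hx' ▸ (ha p).mul (ha s).inv
    haveI : Algebra.IsIntegral (B ⊗[k] E) (B ⊗[k] E') := ⟨fun z => by
      induction z using TensorProduct.induction_on with
      | zero => exact isIntegral_zero
      | tmul b x =>
        have e : b ⊗ₜ[k] x = algebraMap (B ⊗[k] E) (B ⊗[k] E') (b ⊗ₜ 1) * gE' x := by
          rw [hι]; simp [gE']
        rw [e]
        exact isIntegral_algebraMap.mul ((hint x).map_of_comp_eq gE gE' hg)
      | add x y hx hy => exact hx.add hy⟩
    haveI : Module.Free (B ⊗[k] E) (B ⊗[k] E') := by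
      let b := Module.Free.chooseBasis E E'
      let Ψ : B ⊗[k] E' ≃ₗ[B] (Module.Free.ChooseBasisIndex E E' →₀ B ⊗[k] E) :=
        (TensorProduct.AlgebraTensorModule.congr (LinearEquiv.refl B B) (b.repr.restrictScalars k)).trans
          (TensorProduct.finsuppRight k B B E _)
      refine Module.Free.of_basis (Module.Basis.ofRepr
        ({ Ψ.toAddEquiv with map_smul' := fun c z => ?_ } :
          B ⊗[k] E' ≃ₗ[B ⊗[k] E] (Module.Free.ChooseBasisIndex E E' →₀ B ⊗[k] E)))
      change Ψ (c • z) = c • Ψ z
      induction c using TensorProduct.induction_on with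
      | zero => simp
      | add x y hx hy => simp only [add_smul, map_add, hx, hy]
      | tmul b' e =>
        induction z using TensorProduct.induction_on with
        | zero => simp
        | add x y hx hy => simp only [smul_add, map_add, hx, hy]
        | tmul b'' x =>
          rw [Algebra.smul_def, hι, Algebra.TensorProduct.tmul_mul_tmul, ← Algebra.smul_def]
          ext1 j
          simp [Ψ]
    exact sepBC_of_free_of_integral _ (B ⊗[k] E') h
  · have htr : Transcendental E a := halg
    obtain ⟨ρ, hρ⟩ := LinearMap.exists_leftInverse_of_injective (Polynomial.aeval a : Polynomial E →ₐ[E] E').toLinearMap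
      (LinearMap.ker_eq_bot.2 (transcendental_iff_injective.1 htr))
    refine sepBC_of_poly _ (Polynomial.aeval (gE' a)) (fun X _ _ => ?_) (fun c => ?_) h
    · let Rk : B ⊗[k] E' →ₗ[k] Polynomial (B ⊗[k] E) :=
        TensorProduct.lift (LinearMap.mk₂ k (fun b x => Polynomial.C (b ⊗ₜ[k] (1 : E)) * (ρ x).map gE)
          (fun b b' x => by simp [add_tmul, add_mul])
          (fun c b x => by rw [← smul_tmul', ← Polynomial.smul_C, smul_mul_assoc])
          (fun b x x' => by simp [mul_add])
          (fun c b x => by
            rw [LinearMap.map_smul_of_tower]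
            ext n
            simp [gE, tmul_smul, mul_smul_comm, Polynomial.coeff_smul]))
      let Rl : B ⊗[k] E' →ₗ[B ⊗[k] E] Polynomial (B ⊗[k] E) :=
        { Rk.toAddMonoidHom with
          map_smul' := fun c z => by
            change Rk (c • z) = c • Rk z
            induction c using TensorProduct.induction_on with
            | zero => simp
            | add x y hx hy => simp only [add_smul, map_add, hx, hy]
            | tmul b' e =>
              induction z using TensorProduct.induction_on with
              | zero => simp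
              | add x y hx hy => simp only [smul_add, map_add, hx, hy]
              | tmul b'' x =>
                rw [Algebra.smul_def, hι, Algebra.TensorProduct.tmul_mul_tmul, ← Algebra.smul_def]
                simp only [Rk, lift.tmul, LinearMap.mk₂_apply, map_smul]
                rw [Polynomial.smul_eq_C_mul, Polynomial.smul_eq_C_mul, Polynomial.map_mul, Polynomial.map_C,
                  ← mul_assoc, ← mul_assoc, ← Polynomial.C_mul, ← Polynomial.C_mul]
                simp [gE] }
      have hRl : Rl ∘ₗ (Polynomial.aeval (gE' a)).toLinearMap = LinearMap.id := by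
        refine Polynomial.lhom_ext' fun n => LinearMap.ext_ring ?_
        simp only [LinearMap.comp_apply, AlgHom.toLinearMap_apply, LinearMap.id_apply, Polynomial.aeval_monomial]
        have e : (gE' a) ^ n = (1 : B) ⊗ₜ[k] Polynomial.aeval a (Polynomial.X ^ n : Polynomial E) := by
          rw [← map_pow]; simp [gE']
        rw [map_one, one_mul, e]
        change Rk _ = _
        simp only [Rk, lift.tmul, LinearMap.mk₂_apply]
        rw [show ρ (Polynomial.aeval a (Polynomial.X ^ n : Polynomial E)) = Polynomial.X ^ n from congr($hρ (Polynomial.X ^ n))]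
        simp [Polynomial.monomial_one_right_eq_X_pow, ← Algebra.TensorProduct.one_def]
      intro z z' hzz
      have h5 := congrArg (Rl.rTensor X) hzz
      rwa [← LinearMap.comp_apply, ← LinearMap.comp_apply, ← LinearMap.rTensor_comp, hRl, LinearMap.rTensor_id] at h5
    · induction c using TensorProduct.induction_on with
      | zero => exact ⟨0, 1, by simp, by simp⟩
      | add x y hx hy =>
        obtain ⟨p, s, hs, hx⟩ := hx
        obtain ⟨p', s', hs', hy⟩ := hy
        refine ⟨s' * p + s * p', s * s', by simpa using hs.mul hs', ?_⟩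
        simp only [map_add, map_mul, ← hx, ← hy]
        ring
      | tmul b x =>
        obtain ⟨p, s, hs, hx⟩ := hgen x
        refine ⟨Polynomial.C (b ⊗ₜ 1) * p.map gE, s.map gE, ?_, ?_⟩
        · rw [haeval]
          exact (isUnit_iff_ne_zero.2 hs).map gE'
        · rw [map_mul, haeval, haeval, Polynomial.aeval_C, hι, ← hx]
          simp [gE']

end Field

end Groth.Agent.SepFam
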